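import Mathlib
import Cfsg.Agent.Lib.Fusion.SubgroupCountSq

/-!
# Doubly transitive groups of even degree with a regular cyclic subgroup: generalities
-/

set_option autoImplicit false
set_option linter.unusedSectionVars false

namespace Cfsg.Agent.Perm.CyclicTimesZ

open MulAction Subgroup

universe u v

section general

variable {G : Type u} [Group G] [Finite G]

/-- Subgroups of equal order of a cyclic subgroup coincide. -/
theorem cyclic_sub_eq {C A B : Subgroup G} (hC : IsCyclic C) (hA : A ≤ C) (hB : B ≤ C)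
    (h : Nat.card A = Nat.card B) : A = B := by
  haveI := hC
  have hAB : Nat.card (A.subgroupOf C) = Nat.card (B.subgroupOf C) := by
    rw [Nat.card_congr (subgroupOfEquivOfLe hA).toEquiv, Nat.card_congr (subgroupOfEquivOfLe hB).toEquiv, h]
  have e := Cfsg.Agent.CountSq.cyclic_unique (A.subgroupOf C) (B.subgroupOf C) hAB
  rwa [Subgroup.subgroupOf_inj, inf_eq_left.2 hA, inf_eq_left.2 hB] at e

/-- A cyclic subgroup contains at most one involution. -/
theorem cyclic_inv_unique {C : Subgroup G} (hC : IsCyclic C) {x y : G} (hx : x ∈ C) (hy : y ∈ C)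
    (hx2 : orderOf x = 2) (hy2 : orderOf y = 2) : x = y := by
  have e : zpowers x = zpowers y := cyclic_sub_eq hC ((zpowers_le).2 hx) ((zpowers_le).2 hy)
    (by rw [Nat.card_zpowers, Nat.card_zpowers, hx2, hy2])
  obtain ⟨k, hk⟩ := mem_zpowers_iff.1 (e ▸ mem_zpowers x : x ∈ zpowers y)
  rw [← hk]
  rcases Int.even_or_odd k with ⟨j, rfl⟩ | ⟨j, rfl⟩
  · exfalso
    have h1 : x = 1 := by
      rw [← hk, ← two_mul, zpow_mul]
      have h2 : y ^ (2 : ℤ) = 1 := by
        rw [zpow_ofNat]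
        exact hy2 ▸ pow_orderOf_eq_one y
      rw [h2, one_zpow]
    rw [h1, orderOf_one] at hx2
    omega
  · have h2 : y ^ (2 : ℤ) = 1 := by
      rw [zpow_ofNat]
      exact hy2 ▸ pow_orderOf_eq_one y
    rw [zpow_add, zpow_mul, h2, one_zpow, one_mul, zpow_one]

/-- A group with a cyclic Sylow 2-subgroup has a normal 2-complement. -/
theorem cyclic_two_complement (S : Sylow 2 G) (hS : IsCyclic (S : Subgroup G)) :
    ∃ K : Subgroup G, K.Normal ∧ Odd (Nat.card K) ∧ IsComplement' K (S : Subgroup G) := by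
  by_cases h2 : 2 ∣ Nat.card G
  · have hp : (2 : ℕ) = (Nat.card G).minFac := ((Nat.minFac_eq_two_iff _).2 h2).symm
    refine ⟨_, inferInstance, ?_, MonoidHom.ker_transferSylow_isComplement' S
      (hS.normalizer_le_centralizer hp.symm)⟩
    rw [← Nat.not_even_iff_odd, even_iff_two_dvd]
    exact MonoidHom.not_dvd_card_ker_transferSylow S (hS.normalizer_le_centralizer hp.symm)
  · have hodd : Odd (Nat.card G) := Nat.odd_iff.2 (by omega)
    have hS1 : (S : Subgroup G) = ⊥ := by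
      rw [← Subgroup.card_eq_one, S.card_eq_multiplicity, Nat.factorization_eq_zero_of_not_dvd h2, pow_zero]
    refine ⟨⊤, inferInstance, by rwa [Subgroup.card_top], ?_⟩
    rw [hS1]
    exact isComplement'_top_bot

theorem card_sylow_two (S : Sylow 2 G) : Nat.card S = 2 ^ (Nat.card G).factorization 2 :=
  S.card_eq_multiplicity

/-- Some subgroup of a Sylow 2-subgroup is conjugate to the 2-part of a given subgroup. -/
theorem exists_two_part_le (A : Subgroup G) (S : Sylow 2 G) :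
    ∃ (g : G) (A' : Subgroup G), A' ≤ (S : Subgroup G) ∧ A' ≤ A.map (MulAut.conj g).toMonoidHom ∧
      Nat.card A' = 2 ^ (Nat.card A).factorization 2 := by
  classical
  obtain ⟨P⟩ : Nonempty (Sylow 2 A) := inferInstance
  have hP : IsPGroup 2 ((P : Subgroup A).map A.subtype) := P.isPGroup'.map _
  obtain ⟨S1, hS1⟩ := hP.exists_le_sylow
  obtain ⟨g, hg⟩ := MulAction.exists_smul_eq G S1 S
  refine ⟨g, ((P : Subgroup A).map A.subtype).map (MulAut.conj g).toMonoidHom, ?_, ?_, ?_⟩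
  · rw [← hg, Sylow.coe_subgroup_smul]
    rintro _ ⟨x, hx, rfl⟩
    exact Subgroup.smul_mem_pointwise_smul x (MulAut.conj g) _ (hS1 hx)
  · exact Subgroup.map_mono (Subgroup.map_subtype_le _)
  · rw [Subgroup.card_map_of_injective (MulEquiv.injective _),
      Subgroup.card_map_of_injective A.subtype_injective, P.card_eq_multiplicity]

end general

section action

variable (G : Type u) (Ω : Type v) [Group G] [MulAction G Ω]

/-- Transitivity on ordered pairs of distinct points. -/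
def TT : Prop := ∀ ⦃a b c d : Ω⦄, a ≠ b → c ≠ d → ∃ g : G, g • a = c ∧ g • b = d

variable {G Ω}

theorem exists_ne (hn : 2 ≤ Nat.card Ω) (a : Ω) : ∃ b : Ω, b ≠ a := by
  have : Finite Ω := Nat.finite_of_card_ne_zero (by omega)
  haveI : Nontrivial Ω := (Finite.one_lt_card_iff_nontrivial).1 (by omega)
  exact _root_.exists_ne a

theorem TT.moves (h : TT G Ω) (hn : 2 ≤ Nat.card Ω) (a c : Ω) : ∃ g : G, g • a = c := by
  obtain ⟨b, hb⟩ := exists_ne hn a
  obtain ⟨d, hd⟩ := exists_ne hn c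
  obtain ⟨g, hg, _⟩ := h hb.symm hd.symm
  exact ⟨g, hg⟩

theorem TT.move_ne (h : TT G Ω) {a b c : Ω} (hb : b ≠ a) (hc : c ≠ a) :
    ∃ g ∈ stabilizer G a, g • b = c := by
  obtain ⟨g, hga, hgb⟩ := h hb.symm hc.symm
  exact ⟨g, hga, hgb⟩

variable [Finite G] [Finite Ω] [FaithfulSMul G Ω]

theorem eq_one_of_fix {g : G} (h : ∀ x : Ω, g • x = x) : g = 1 :=
  eq_of_smul_eq_smul (α := Ω) fun x => by rw [h x, one_smul]

theorem normal_fix_eq_bot (h : TT G Ω) (hn : 2 ≤ Nat.card Ω) (N : Subgroup G) [hN : N.Normal] {a : Ω}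
    (hfix : N ≤ stabilizer G a) : N = ⊥ := by
  rw [Subgroup.eq_bot_iff_forall]
  intro x hx
  refine eq_one_of_fix (Ω := Ω) fun c => ?_
  obtain ⟨g, rfl⟩ := h.moves hn a c
  have e : (g⁻¹ * x * g) • a = a := hfix (hN.conj_mem' x hx g)
  rw [mul_smul, mul_smul, inv_smul_eq_iff] at e
  exact e

theorem stab_maximal (h : TT G Ω) {a : Ω} {X : Subgroup G} (hX : stabilizer G a ≤ X) {x : G}
    (hx : x ∈ X) (hxa : x • a ≠ a) : X = ⊤ := by
  rw [eq_top_iff]
  intro g _
  by_cases hga : g • a = a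
  · exact hX hga
  obtain ⟨m, hm, hmx⟩ := h.move_ne hxa hga
  have h1 : g⁻¹ * (m * x) ∈ stabilizer G a := by
    rw [mem_stabilizer_iff, mul_smul, mul_smul, hmx, inv_smul_smul]
  have h2 := mul_mem (mul_mem (hX hm) hx) (inv_mem (hX h1))
  rwa [show m * x * (g⁻¹ * (m * x))⁻¹ = g by group] at h2

/-- Orbit-stabiliser for a subgroup. -/
theorem card_moves (X : Subgroup G) (a : Ω) (T : Set Ω) (hT : ∀ x ∈ X, x • a ∈ T)
    (hs : ∀ c ∈ T, ∃ x ∈ X, x • a = c) :
    Nat.card T * Nat.card (X ⊓ stabilizer G a : Subgroup G) = Nat.card X := by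
  have ho : orbit X a = T := by
    ext c
    constructor
    · rintro ⟨x, rfl⟩
      exact hT x x.2
    · intro hc
      obtain ⟨x, hx, rfl⟩ := hs c hc
      exact ⟨⟨x, hx⟩, rfl⟩
  have e : Nat.card (stabilizer X a) = Nat.card (X ⊓ stabilizer G a : Subgroup G) :=
    Nat.card_congr
      { toFun := fun y => ⟨((y : X) : G), (y : X).2, y.2⟩
        invFun := fun y => ⟨⟨(y : G), y.2.1⟩, y.2.2⟩
        left_inv := fun y => rfl
        right_inv := fun y => rfl }
  rw [← e, ← ho, ← Nat.card_prod, Nat.card_congr (orbitProdStabilizerEquivGroup X a)]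

theorem card_group (h : TT G Ω) (hn : 2 ≤ Nat.card Ω) (a : Ω) :
    Nat.card Ω * Nat.card (stabilizer G a) = Nat.card G := by
  have e := card_moves (G := G) ⊤ a Set.univ (fun _ _ => trivial)
    fun c _ => ⟨(h.moves hn a c).choose, trivial, (h.moves hn a c).choose_spec⟩
  rwa [top_inf_eq, Subgroup.card_top, Nat.card_univ] at e

theorem card_ne (a : Ω) : Nat.card {x : Ω | x ≠ a} = Nat.card Ω - 1 := by
  classical
  cases nonempty_fintype Ω
  rw [Nat.card_eq_card_toFinset, Nat.card_eq_fintype_card, Set.toFinset_setOf,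
    Finset.filter_ne' Finset.univ a, Finset.card_erase_of_mem (Finset.mem_univ _), Finset.card_univ]

theorem card_stab (h : TT G Ω) {a b : Ω} (hab : b ≠ a) :
    (Nat.card Ω - 1) * Nat.card (stabilizer G a ⊓ stabilizer G b : Subgroup G) =
      Nat.card (stabilizer G a) := by
  rw [← card_ne (Ω := Ω) a]
  exact card_moves (stabilizer G a) b _
    (fun x hx e => hab (MulAction.injective x (e.trans (mem_stabilizer_iff.1 hx).symm)))
    fun c hc => h.move_ne hab hc

/-- A 2-transitive group of even degree exceeding 2 has noncyclic Sylow 2-subgroups. -/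
theorem sylow_not_cyclic (h : TT G Ω) (he : Even (Nat.card Ω)) (hn : 2 < Nat.card Ω) (S : Sylow 2 G) :
    ¬ IsCyclic (S : Subgroup G) := by
  intro hS
  obtain ⟨K, hK, hKodd, hKS⟩ := cyclic_two_complement S hS
  obtain ⟨m, hm⟩ := he
  obtain ⟨a⟩ : Nonempty Ω := (Nat.card_pos_iff.1 (by omega)).1
  obtain ⟨b, hb⟩ := exists_ne (by omega) a
  by_cases hK1 : K = ⊥
  · subst hK1
    have hST : (S : Subgroup G) = ⊤ := Subgroup.isComplement'_bot_left.1 hKS
    have hdvd : Nat.card Ω - 1 ∣ Nat.card G :=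
      ((Dvd.intro _ (card_stab h hb) : _ ∣ Nat.card (stabilizer G a))).trans
        (Subgroup.card_subgroup_dvd_card _)
    rw [← Subgroup.card_top (G := G), ← hST, card_sylow_two] at hdvd
    obtain ⟨k, _, hk⟩ := (Nat.dvd_prime_pow Nat.prime_two).1 hdvd
    rcases k with _ | k
    · simp at hk; omega
    · rw [pow_succ] at hk; omega
  · obtain ⟨x, hx, hxa⟩ : ∃ x ∈ K, x • a ≠ a := by
      by_contra hc
      push Not at hc
      exact hK1 (normal_fix_eq_bot h (by omega) K fun x hx => hc x hx)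
    have hs : ∀ c ∈ (Set.univ : Set Ω), ∃ y ∈ K, y • a = c := by
      intro c _
      by_cases hc : c = a
      · exact ⟨1, one_mem _, by rw [hc, one_smul]⟩
      obtain ⟨g, hg, hgx⟩ := h.move_ne hxa hc
      exact ⟨g * x * g⁻¹, hK.conj_mem x hx g, by
        rw [mul_smul, mul_smul, mem_stabilizer_iff.1 (inv_mem hg), hgx]⟩
    have e := card_moves K a Set.univ (fun _ _ => trivial) hs
    rw [Nat.card_univ] at e
    have : Odd (Nat.card Ω) := hKodd.of_dvd_nat (Dvd.intro _ e)
    rw [Nat.odd_iff] at this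
    omega

/-- An abelian transitive subgroup of a faithful group acts semiregularly. -/
theorem semiregular (A : Subgroup G) (hA : IsCyclic A) (hAt : ∀ a c : Ω, ∃ g ∈ A, g • a = c)
    {x : G} (hx : x ∈ A) {a : Ω} (hxa : x • a = a) : x = 1 := by
  haveI := hA
  refine eq_one_of_fix (Ω := Ω) fun c => ?_
  obtain ⟨g, hg, rfl⟩ := hAt a c
  have e : (⟨x, hx⟩ : A) * ⟨g, hg⟩ = ⟨g, hg⟩ * ⟨x, hx⟩ := IsCyclic.commGroup.mul_comm _ _
  have e' : x * g = g * x := congrArg Subtype.val e
  rw [← mul_smul, e', mul_smul, hxa]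

theorem comm_of_cyclic {A : Subgroup G} (hA : IsCyclic A) {x y : G} (hx : x ∈ A) (hy : y ∈ A) :
    x * y = y * x := by
  haveI := hA
  exact congrArg Subtype.val (IsCyclic.commGroup.mul_comm (⟨x, hx⟩ : A) ⟨y, hy⟩)

theorem card_regular (A : Subgroup G) (hA : IsCyclic A) (hAt : ∀ a c : Ω, ∃ g ∈ A, g • a = c) (a : Ω) :
    Nat.card A = Nat.card Ω := by
  have e := card_moves A a Set.univ (fun _ _ => trivial) fun c _ => hAt a c
  have hb : A ⊓ stabilizer G a = ⊥ := (Subgroup.eq_bot_iff_forall _).2 fun x hx =>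
    semiregular A hA hAt hx.1 hx.2
  rwa [hb, Subgroup.card_bot, Nat.card_univ, mul_one, eq_comm] at e

/-- The action of a subgroup on an invariant set. -/
def restrictHom (L : Subgroup G) (B : Set Ω) (hB : ∀ g ∈ L, ∀ x ∈ B, g • x ∈ B) :
    L →* Equiv.Perm B where
  toFun g :=
    { toFun := fun x => ⟨(g : G) • (x : Ω), hB g g.2 x x.2⟩
      invFun := fun x => ⟨(g : G)⁻¹ • (x : Ω), hB _ (inv_mem g.2) x x.2⟩
      left_inv := fun x => Subtype.ext (inv_smul_smul _ _)
      right_inv := fun x => Subtype.ext (smul_inv_smul _ _) }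
  map_one' := Equiv.ext fun x => Subtype.ext (one_smul G (x : Ω))
  map_mul' g g' := Equiv.ext fun x => Subtype.ext (mul_smul (g : G) (g' : G) (x : Ω))

@[simp] theorem restrictHom_apply {L : Subgroup G} {B : Set Ω} (hB : ∀ g ∈ L, ∀ x ∈ B, g • x ∈ B)
    (g : L) (x : B) : ((restrictHom L B hB g) x : Ω) = (g : G) • (x : Ω) := rfl

theorem restrictHom_eq_one {L : Subgroup G} {B : Set Ω} (hB : ∀ g ∈ L, ∀ x ∈ B, g • x ∈ B) (g : L) :
    restrictHom L B hB g = 1 ↔ ∀ x ∈ B, (g : G) • x = x := by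
  constructor
  · intro e x hx
    exact congrArg Subtype.val (Equiv.congr_fun e ⟨x, hx⟩)
  · intro e
    exact Equiv.ext fun x => Subtype.ext (e x x.2)

theorem tt_restrict {L : Subgroup G} {B : Set Ω} (hB : ∀ g ∈ L, ∀ x ∈ B, g • x ∈ B)
    (h : ∀ a ∈ B, ∀ b ∈ B, ∀ c ∈ B, ∀ d ∈ B, a ≠ b → c ≠ d → ∃ g ∈ L, g • a = c ∧ g • b = d) :
    TT (restrictHom L B hB).range B := by
  intro a b c d hab hcd
  obtain ⟨g, hg, h1, h2⟩ := h a a.2 b b.2 c c.2 d d.2 (fun e => hab (Subtype.ext e)) (fun e => hcd (Subtype.ext e))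
  exact ⟨⟨restrictHom L B hB ⟨g, hg⟩, ⟨g, hg⟩, rfl⟩, Subtype.ext h1, Subtype.ext h2⟩

end action

end Cfsg.Agent.Perm.CyclicTimesZ
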