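import Cfsg.Agent.Lib.Perm.CyclicTimesZ.Stab

/-!
# Doubly transitive groups of even degree with regular cyclic subgroup and Z-group stabilisers are
sharply triply transitive of degree a prime plus one
-/

set_option autoImplicit false
set_option linter.unusedSectionVars false

namespace Cfsg.Agent.Perm.CyclicTimesZ

open MulAction Subgroup

universe u

/-- Fixed point free involutions. -/
def IsFpfInv {G Ω : Type*} [Group G] [MulAction G Ω] (z : G) : Prop :=
  z * z = 1 ∧ ∀ x : Ω, z • x ≠ x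

/-- The conclusion of the core theorem. -/
structure Sharp (G Ω : Type*) [Group G] [MulAction G Ω] : Prop where
  prime : (Nat.card Ω - 1).Prime
  card_two : ∀ a b : Ω, b ≠ a → Nat.card (stabilizer G a ⊓ stabilizer G b : Subgroup G) = Nat.card Ω - 2
  three : ∀ (g : G) (a b c : Ω), a ≠ b → b ≠ c → a ≠ c → g • a = a → g • b = b → g • c = c → g = 1
  conj : ∀ x y : G, IsFpfInv (Ω := Ω) x → IsFpfInv (Ω := Ω) y → ∃ g : G, g * x * g⁻¹ = y
  second : ∀ x : G, IsFpfInv (Ω := Ω) x → ∃ y : G, IsFpfInv (Ω := Ω) y ∧ y ≠ x ∧ y * x = x * y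

variable {G Ω : Type u} [Group G] [MulAction G Ω] [Finite G] [Finite Ω] [FaithfulSMul G Ω]

theorem orderOf_two_iff {x : G} : orderOf x = 2 ↔ x * x = 1 ∧ x ≠ 1 := by
  rw [orderOf_eq_prime_iff, pow_two]

theorem conj_eq_of_pair (hh : Hyp G Ω) {h x : G} (hx : orderOf x = 2) (hh2 : orderOf h = 2) {c d : Ω}
    (hcd : d ≠ c) (hxc : x • c = c) (hxd : x • d = d) (hhc : h • c = c) (hhd : h • d = d) : x = h :=
  cyclic_inv_unique (hh.two_cyclic hcd) ⟨hxc, hxd⟩ ⟨hhc, hhd⟩ hx hh2

theorem orderOf_conj' (g x : G) : orderOf (g * x * g⁻¹) = orderOf x := by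
  rw [← MulAut.conj_apply, MulEquiv.orderOf_eq]

/-- The set-up: a regular cyclic group with its involution, and the involution fixing two points. -/
structure Setup (A : Subgroup G) (a b : Ω) (z h : G) : Prop where
  cyc : IsCyclic A
  trans : ∀ x y : Ω, ∃ g ∈ A, g • x = y
  mem : z ∈ A
  zord : orderOf z = 2
  fpf : ∀ x : Ω, z • x ≠ x
  za : z • a = b
  hord : orderOf h = 2
  ha : h • a = a
  hb : h • b = b

theorem Hyp.exists_setup (hh : Hyp G Ω) :
    ∃ (A : Subgroup G) (a b : Ω) (z h : G), Setup A a b z h := by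
  obtain ⟨A, hA, hAt⟩ := hh.cyc
  have h4 := hh.four
  obtain ⟨a⟩ : Nonempty Ω := (Nat.card_pos_iff.1 (by omega)).1
  haveI : Fact (Nat.Prime 2) := ⟨Nat.prime_two⟩
  obtain ⟨z, hz⟩ := exists_prime_orderOf_dvd_card' (G := A) 2
    (by rw [card_regular A hA hAt a]; exact even_iff_two_dvd.1 hh.even)
  rw [← Subgroup.orderOf_coe] at hz
  have hfpf : ∀ x : Ω, (z : G) • x ≠ x := fun x e => by
    rw [semiregular A hA hAt z.2 e, orderOf_one] at hz
    omega
  obtain ⟨h, hh2⟩ := exists_prime_orderOf_dvd_card'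
    (G := (stabilizer G a ⊓ stabilizer G ((z : G) • a) : Subgroup G)) 2
    (even_iff_two_dvd.1 (hh.even_two (hfpf a)))
  rw [← Subgroup.orderOf_coe] at hh2
  exact ⟨A, a, _, z, h, hA, hAt, z.2, hz, hfpf, rfl, hh2, h.2.1, h.2.2⟩

namespace Setup

variable {A : Subgroup G} {a b : Ω} {z h : G}

theorem zz (s : Setup A a b z h) : z * z = 1 := (orderOf_two_iff.1 s.zord).1

theorem hinv (s : Setup A a b z h) : h * h = 1 := (orderOf_two_iff.1 s.hord).1

theorem h_ne (s : Setup A a b z h) : h ≠ 1 := (orderOf_two_iff.1 s.hord).2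

theorem zi (s : Setup A a b z h) : z⁻¹ = z := inv_eq_of_mul_eq_one_right s.zz

theorem hi (s : Setup A a b z h) : h⁻¹ = h := inv_eq_of_mul_eq_one_right s.hinv

theorem hne (s : Setup A a b z h) : b ≠ a := s.za ▸ s.fpf a

theorem zb (s : Setup A a b z h) : z • b = a := by rw [← s.za, ← mul_smul, s.zz, one_smul]

theorem z_zsmul (s : Setup A a b z h) (x : Ω) : z • z • x = x := by rw [← mul_smul, s.zz, one_smul]

theorem comm_z (s : Setup A a b z h) {g : G} (hg : g ∈ A) : g * z = z * g :=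
  comm_of_cyclic s.cyc hg s.mem

theorem z_conj_mem (s : Setup A a b z h) {k : G} (hk : k ∈ stabilizer G a ⊓ stabilizer G b) :
    z * k * z ∈ stabilizer G a ⊓ stabilizer G b := by
  refine ⟨?_, ?_⟩
  · show (z * k * z) • a = a
    rw [mul_smul, mul_smul, s.za, mem_stabilizer_iff.1 hk.2, s.zb]
  · show (z * k * z) • b = b
    rw [mul_smul, mul_smul, s.zb, mem_stabilizer_iff.1 hk.1, s.za]

theorem comm_h (s : Setup A a b z h) (hh : Hyp G Ω) : z * h = h * z := by
  have e : z * h * z = h :=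
    cyclic_inv_unique (hh.two_cyclic s.hne) (s.z_conj_mem ⟨s.ha, s.hb⟩) ⟨s.ha, s.hb⟩
      (by conv_lhs => rw [show z * h * z = z * h * z⁻¹ by rw [s.zi]]
          rw [orderOf_conj']; exact s.hord) s.hord
  conv_rhs => rw [← e]
  rw [mul_assoc, mul_assoc, s.zz, mul_one]

theorem inv_of_A (s : Setup A a b z h) {g : G} (hg : g ∈ A) (hg2 : g * g = 1) : g = 1 ∨ g = z := by
  by_cases h1 : g = 1
  · exact Or.inl h1
  · exact Or.inr (cyclic_inv_unique s.cyc hg s.mem (orderOf_two_iff.2 ⟨hg2, h1⟩) s.zord)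

/-- The centraliser of `h` is doubly transitive on the fixed points of `h`. -/
theorem move_fix (s : Setup A a b z h) (hh : Hyp G Ω) {c d : Ω} (hc : h • c = c) (hd : h • d = d)
    (hcd : d ≠ c) : ∃ g : G, g * h = h * g ∧ g • a = c ∧ g • b = d := by
  obtain ⟨g, hgc, hgd⟩ := hh.tt s.hne.symm hcd.symm
  refine ⟨g, ?_, hgc, hgd⟩
  have e : g * h * g⁻¹ = h := conj_eq_of_pair hh (by rw [orderOf_conj', s.hord]) s.hord hcd
    (by rw [mul_smul, mul_smul, ← hgc, inv_smul_smul, s.ha])
    (by rw [mul_smul, mul_smul, ← hgd, inv_smul_smul, s.hb]) hc hd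
  conv_rhs => rw [← e]
  rw [inv_mul_cancel_right]

end Setup

section sharpCase

variable {A : Subgroup G} {a b : Ω} {z h : G}

/-- If `h` fixes two points only, the group is sharply triply transitive of degree `p + 1`. -/
theorem sharp_of_two (hh : Hyp G Ω) (s : Setup A a b z h)
    (hfix : ∀ x : Ω, h • x = x → x = a ∨ x = b) : Sharp G Ω := by
  classical
  cases nonempty_fintype Ω
  cases nonempty_fintype G
  have h4 := hh.four
  have hab := s.hne
  set H := stabilizer G a ⊓ stabilizer G b with hHdef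
  set D := stabDer (G := G) a with hDdef
  have hHc := hh.two_cyclic hab
  have hhH : h ∈ H := ⟨s.ha, s.hb⟩
  -- conjugates of h
  have hconjfix : ∀ (g : G) (y : Ω), (g * h * g⁻¹) • y = y → y = g • a ∨ y = g • b := by
    intro g y hy
    rw [mul_smul, mul_smul, smul_eq_iff_eq_inv_smul] at hy
    rcases hfix _ hy with e | e
    · exact Or.inl (inv_smul_eq_iff.1 e)
    · exact Or.inr (inv_smul_eq_iff.1 e)
  have hconja : ∀ g : G, (g * h * g⁻¹) • (g • a) = g • a ∧ (g * h * g⁻¹) • (g • b) = g • b := fun g =>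
    ⟨by rw [mul_smul, mul_smul, inv_smul_smul, s.ha], by rw [mul_smul, mul_smul, inv_smul_smul, s.hb]⟩
  have hconjord : ∀ g : G, orderOf (g * h * g⁻¹) = 2 := fun g => by rw [orderOf_conj', s.hord]
  let T : Set G := {x | (∃ g, x = g * h * g⁻¹) ∧ x • a ≠ a}
  let Sc : Ω → Set G := fun c => {x | (∃ g, x = g * h * g⁻¹) ∧ x • a = c}
  let P := Σ c : {x : Ω | x ≠ a}, {d : Ω | d ≠ a ∧ d ≠ (c : Ω)}
  have hP : Nat.card P = (Nat.card Ω - 1) * (Nat.card Ω - 2) := by
    rw [Nat.card_sigma]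
    have : ∀ c : {x : Ω | x ≠ a}, Nat.card {d : Ω | d ≠ a ∧ d ≠ (c : Ω)} = Nat.card Ω - 2 := by
      intro c
      have e : {d : Ω | d ≠ a ∧ d ≠ (c : Ω)} = ({a, (c : Ω)} : Set Ω)ᶜ := by
        ext d
        simp
      rw [e, Nat.card_coe_set_eq, Set.ncard_compl, Set.ncard_pair (Ne.symm c.2)]
    rw [Finset.sum_congr rfl fun c _ => this c, Finset.sum_const, Finset.card_univ,
      ← Nat.card_eq_fintype_card, card_ne, smul_eq_mul]
  -- pairs versus conjugates
  have hQ : 2 * Nat.card T = (Nat.card Ω - 1) * (Nat.card Ω - 2) := by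
    rw [← hP]
    have hfib : ∀ x : T, Nat.card {y : Ω | (x : G) • y = y} = 2 := by
      rintro ⟨x, ⟨g, rfl⟩, hx⟩
      have e : {y : Ω | (g * h * g⁻¹) • y = y} = ({g • a, g • b} : Set Ω) := by
        ext y
        refine ⟨fun hy => hconjfix g y hy, ?_⟩
        rintro (rfl | rfl)
        · exact (hconja g).1
        · exact (hconja g).2
      show Nat.card {y : Ω | (g * h * g⁻¹) • y = y} = 2
      rw [e, Nat.card_coe_set_eq, Set.ncard_pair (fun e => hab (MulAction.injective g e).symm)]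
    have hQc : Nat.card (Σ x : T, {y : Ω | (x : G) • y = y}) = 2 * Nat.card T := by
      rw [Nat.card_sigma, Finset.sum_congr rfl fun x _ => hfib x, Finset.sum_const, Finset.card_univ,
        ← Nat.card_eq_fintype_card, smul_eq_mul, mul_comm]
    rw [← hQc]
    have hg : ∀ p : P, ∃ g : G, g • a = (p.1 : Ω) ∧ g • b = (p.2 : Ω) := fun p =>
      hh.tt hab.symm p.2.2.2.symm
    choose g hg using hg
    have hmove : ∀ p : P, (g p * h * (g p)⁻¹) • a ≠ a := by
      intro p e
      rcases hconjfix _ _ e with e' | e'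
      · exact p.1.2 ((hg p).1 ▸ e'.symm)
      · exact p.2.2.1 ((hg p).2 ▸ e'.symm)
    refine (Nat.card_eq_of_bijective (fun p : P =>
      (⟨⟨g p * h * (g p)⁻¹, ⟨g p, rfl⟩, hmove p⟩, (p.1 : Ω), by
        show (g p * h * (g p)⁻¹) • (p.1 : Ω) = _
        rw [← (hg p).1]; exact (hconja _).1⟩ : Σ x : T, {y : Ω | (x : G) • y = y})) ⟨?_, ?_⟩).symm
    · intro p q e
      have e1 : g p * h * (g p)⁻¹ = g q * h * (g q)⁻¹ := congrArg (fun s => ((s.1 : T) : G)) e
      have e2 : (p.1 : Ω) = q.1 := congrArg (fun s => (s.2 : Ω)) e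
      have e3 : (g q * h * (g q)⁻¹) • (p.2 : Ω) = p.2 := by
        rw [← e1, ← (hg p).2]; exact (hconja _).2
      rcases hconjfix _ _ e3 with e4 | e4
      · rw [(hg q).1, ← e2] at e4
        exact absurd e4 p.2.2.2
      · rw [(hg q).2] at e4
        obtain ⟨⟨c, hc⟩, ⟨d, hd⟩⟩ := p
        obtain ⟨⟨c', hc'⟩, ⟨d', hd'⟩⟩ := q
        subst e2
        subst e4
        rfl
    · rintro ⟨⟨x, ⟨k, rfl⟩, hx⟩, y, hy⟩
      have hne : k • a ≠ k • b := fun e => hab (MulAction.injective k e).symm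
      have hca : k • a ≠ a := fun e => hx (by
        have := (hconja k).1
        rwa [e] at this)
      have hcb : k • b ≠ a := fun e => hx (by
        have := (hconja k).2
        rwa [e] at this)
      have key : ∀ (c d : Ω) (hc : c ≠ a) (hd : d ≠ a ∧ d ≠ c), (k * h * k⁻¹) • c = c →
          (k * h * k⁻¹) • d = d → g ⟨⟨c, hc⟩, ⟨d, hd⟩⟩ * h * (g ⟨⟨c, hc⟩, ⟨d, hd⟩⟩)⁻¹ = k * h * k⁻¹ := by
        intro c d hc hd h1 h2
        refine conj_eq_of_pair hh (hconjord _) (hconjord _) hd.2 ?_ ?_ h1 h2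
        · have e1 := (hconja (g ⟨⟨c, hc⟩, ⟨d, hd⟩⟩)).1
          simp only [(hg ⟨⟨c, hc⟩, ⟨d, hd⟩⟩).1] at e1
          exact e1
        · have e1 := (hconja (g ⟨⟨c, hc⟩, ⟨d, hd⟩⟩)).2
          simp only [(hg ⟨⟨c, hc⟩, ⟨d, hd⟩⟩).2] at e1
          exact e1
      rcases hconjfix k y hy with e | e
      · refine ⟨⟨⟨k • a, hca⟩, ⟨k • b, hcb, hne.symm⟩⟩, ?_⟩
        subst e
        refine Sigma.subtype_ext (Subtype.ext (key _ _ _ _ (hconja k).1 (hconja k).2)) rfl
      · refine ⟨⟨⟨k • b, hcb⟩, ⟨k • a, hca, hne⟩⟩, ?_⟩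
        subst e
        refine Sigma.subtype_ext (Subtype.ext (key _ _ _ _ (hconja k).2 (hconja k).1)) rfl
  have hT : Nat.card T = (Nat.card Ω - 1) * Nat.card (Sc b) := by
    have hm : ∀ c : {x : Ω | x ≠ a}, ∃ m : G, m • a = a ∧ m • b = (c : Ω) := fun c => by
      obtain ⟨m, hm1, hm2⟩ := hh.tt.move_ne hab c.2
      exact ⟨m, hm1, hm2⟩
    have hfib : ∀ c : {x : Ω | x ≠ a}, Nat.card (Sc c) = Nat.card (Sc b) := by
      intro c
      obtain ⟨m, hma, hmb⟩ := hm c
      refine (Nat.card_congr (Equiv.subtypeEquiv (MulAut.conj m).toEquiv fun x => ?_)).symm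
      show _ ↔ (∃ g, m * x * m⁻¹ = g * h * g⁻¹) ∧ (m * x * m⁻¹) • a = (c : Ω)
      have hmi : m⁻¹ • a = a := by rw [inv_smul_eq_iff, hma]
      refine and_congr ⟨?_, ?_⟩ ?_
      · rintro ⟨g, rfl⟩
        exact ⟨m * g, by group⟩
      · rintro ⟨g, hg⟩
        refine ⟨m⁻¹ * g, ?_⟩
        calc x = m⁻¹ * (m * x * m⁻¹) * m := by group
          _ = _ := by rw [hg]; group
      · rw [mul_smul, mul_smul, hmi, ← hmb, smul_left_cancel_iff]
    have e := Nat.card_sigma (β := fun c : {x : Ω | x ≠ a} => Sc c)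
    rw [Finset.sum_congr rfl fun c _ => hfib c, Finset.sum_const, Finset.card_univ,
      ← Nat.card_eq_fintype_card, card_ne, smul_eq_mul] at e
    rw [← e]
    refine (Nat.card_eq_of_bijective
      (fun p : Σ c : {x : Ω | x ≠ a}, Sc c => (⟨p.2, p.2.2.1, by rw [p.2.2.2]; exact p.1.2⟩ : T)) ⟨?_, ?_⟩).symm
    · rintro ⟨c, x⟩ ⟨c', x'⟩ e
      have e1 : (x : G) = x' := congrArg Subtype.val e
      have e2 : c = c' := Subtype.ext (by rw [← x.2.2, e1, x'.2.2])
      subst e2
      rw [Subtype.ext e1]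
    · rintro ⟨x, hx1, hx2⟩
      exact ⟨⟨⟨x • a, hx2⟩, ⟨x, hx1, rfl⟩⟩, rfl⟩
  have hSb : 2 * Nat.card (Sc b) = Nat.card Ω - 2 := by
    rw [hT] at hQ
    refine Nat.eq_of_mul_eq_mul_left (show 0 < Nat.card Ω - 1 by omega) ?_
    rw [← hQ]
    ring
  -- involutions interchanging a and b
  let Inv : Set G := {x | x * x = 1 ∧ x • a = b}
  let O : Set G := {x | ∃ k ∈ H, x = k * z * k⁻¹}
  have hOfpf : ∀ x ∈ O, x * x = 1 ∧ x • a = b ∧ ∀ y : Ω, x • y ≠ y := by
    rintro x ⟨k, hk, rfl⟩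
    refine ⟨?_, ?_, fun y e => ?_⟩
    · calc k * z * k⁻¹ * (k * z * k⁻¹) = k * (z * z) * k⁻¹ := by group
        _ = 1 := by rw [s.zz]; group
    · rw [mul_smul, mul_smul, mem_stabilizer_iff.1 (inv_mem hk).1, s.za, mem_stabilizer_iff.1 hk.2]
    · rw [mul_smul, mul_smul, smul_eq_iff_eq_inv_smul] at e
      exact s.fpf _ e
  let C : Subgroup G := H ⊓ centralizer {z}
  let I : Subgroup G :=
    { carrier := {k | k ∈ H ∧ z * k * (z * k) = 1}
      one_mem' := ⟨one_mem _, by rw [mul_one, s.zz]⟩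
      mul_mem' := by
        intro x y hx hy
        refine ⟨mul_mem hx.1 hy.1, ?_⟩
        have e1 : z * x * z * y = y * (z * x * z) := comm_of_cyclic hHc (s.z_conj_mem hx.1) hy.1
        have e2 : x * y = y * x := comm_of_cyclic hHc hx.1 hy.1
        calc z * (x * y) * (z * (x * y)) = z * x * z * (z * y * z) * (y * x) := by
              rw [← e2]
              simp only [mul_assoc]
              rw [← mul_assoc z z (y * _), s.zz, one_mul]
          _ = z * x * z * (z * y * (z * y)) * x := by simp only [mul_assoc]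
          _ = 1 := by rw [hy.2, mul_one]; simpa [mul_assoc] using hx.2
      inv_mem' := by
        intro x hx
        refine ⟨inv_mem hx.1, ?_⟩
        have e : z * x * z = x⁻¹ := eq_inv_of_mul_eq_one_left (by simpa [mul_assoc] using hx.2)
        calc z * x⁻¹ * (z * x⁻¹) = z * (z * x * z) * (z * x⁻¹) := by rw [e]
          _ = (z * z) * x * (z * z) * x⁻¹ := by group
          _ = 1 := by rw [s.zz]; group }
  have hI_H : I ≤ H := fun k hk => hk.1
  have hInvI : Nat.card Inv = Nat.card I := by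
    refine Nat.card_congr
      { toFun := fun x => ⟨z * (x : G), ⟨?_, ?_⟩, ?_⟩
        invFun := fun k => ⟨z * (k : G), k.2.2, ?_⟩
        left_inv := fun x => Subtype.ext (by show z * (z * (x : G)) = x; rw [← mul_assoc, s.zz, one_mul])
        right_inv := fun k => Subtype.ext (by show z * (z * (k : G)) = k; rw [← mul_assoc, s.zz, one_mul]) }
    · show (z * (x : G)) • a = a
      rw [mul_smul, x.2.2, s.zb]
    · show (z * (x : G)) • b = b
      have : (x : G) • b = a := by rw [← x.2.2, ← mul_smul, x.2.1, one_smul]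
      rw [mul_smul, this, s.za]
    · show z * (z * (x : G)) * (z * (z * (x : G))) = 1
      rw [← mul_assoc z z, s.zz, one_mul]
      exact x.2.1
    · rw [mul_smul, mem_stabilizer_iff.1 k.2.1.1, s.za]
  have hdisj : Disjoint O (Sc b) := by
    rw [Set.disjoint_left]
    rintro x hx ⟨⟨g, rfl⟩, -⟩
    exact (hOfpf _ hx).2.2 _ (hconja g).1
  have hsub : O ∪ Sc b ⊆ Inv := by
    rintro x (hx | ⟨⟨g, rfl⟩, hx⟩)
    · exact ⟨(hOfpf x hx).1, (hOfpf x hx).2.1⟩
    · exact ⟨(orderOf_two_iff.1 (hconjord g)).1, hx⟩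
  have hsum : Nat.card O + Nat.card (Sc b) ≤ Nat.card I := by
    rw [← hInvI, Nat.card_coe_set_eq, Nat.card_coe_set_eq, Nat.card_coe_set_eq,
      ← Set.ncard_union_eq hdisj]
    exact Set.ncard_le_ncard hsub
  have hO : Nat.card O * Nat.card C = Nat.card H := by
    letI : MulAction H G := MulAction.compHom G
      ((MulAut.conj : G →* MulAut G).comp H.subtype)
    have hsm : ∀ (k : H) (x : G), k • x = (k : G) * x * (k : G)⁻¹ := fun k x => rfl
    have ho : orbit H z = O := by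
      ext x
      constructor
      · rintro ⟨k, rfl⟩
        exact ⟨k, k.2, hsm k z⟩
      · rintro ⟨k, hk, rfl⟩
        exact ⟨⟨k, hk⟩, hsm _ z⟩
    have e : Nat.card (stabilizer H z) = Nat.card C := Nat.card_congr
      { toFun := fun y => ⟨((y : H) : G), (y : H).2, by
          have := mem_stabilizer_iff.1 y.2
          rw [hsm, mul_inv_eq_iff_eq_mul] at this
          exact mem_centralizer_singleton_iff.2 this⟩
        invFun := fun y => ⟨⟨(y : G), y.2.1⟩, by
          rw [mem_stabilizer_iff, hsm, mul_inv_eq_iff_eq_mul]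
          exact mem_centralizer_singleton_iff.1 y.2.2⟩
        left_inv := fun y => rfl
        right_inv := fun y => rfl }
    rw [← e, ← ho, ← Nat.card_prod, Nat.card_congr (orbitProdStabilizerEquivGroup H z)]
  have hhC : h ∈ C := ⟨hhH, mem_centralizer_singleton_iff.2 (s.comm_h hh).symm⟩
  have hC2 : 2 ≤ Nat.card C := by
    have := Nat.le_of_dvd Nat.card_pos (Subgroup.orderOf_dvd_natCard C hhC)
    rwa [s.hord] at this
  have hIle : Nat.card I ≤ 2 * Nat.card O := by
    have h1 : Nat.card (C.subgroupOf I) ≤ 2 := by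
      have hsub : ((C.subgroupOf I : Subgroup I) : Set I) ⊆ {k | (k : G) = 1 ∨ (k : G) = h} := by
        intro k hk
        have hkC : (k : G) * z = z * k := mem_centralizer_singleton_iff.1 (Subgroup.mem_subgroupOf.1 hk).2
        have hk2 : (k : G) * k = 1 := by
          have e := k.2.2
          rw [← hkC, mul_assoc (k : G) z, ← mul_assoc z (k : G), ← hkC, mul_assoc (k : G) z z, s.zz,
            mul_one] at e
          exact e
        by_cases h1 : (k : G) = 1
        · exact Or.inl h1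
        · exact Or.inr (cyclic_inv_unique hHc k.2.1 hhH (orderOf_two_iff.2 ⟨hk2, h1⟩) s.hord)
      rw [← SetLike.coe_sort_coe, Nat.card_coe_set_eq]
      refine (Set.ncard_le_ncard hsub).trans ?_
      rw [← Set.ncard_image_of_injective _ Subtype.val_injective]
      refine (Set.ncard_le_ncard (t := ({1, h} : Set G)) ?_).trans (Set.ncard_pair s.h_ne.symm).le
      rintro _ ⟨k, hk, rfl⟩
      exact hk
    have h2 : C.relIndex I ≤ C.relIndex H :=
      Subgroup.relIndex_le_of_le_right hI_H (Nat.pos_iff_ne_zero.1 (Nat.pos_of_ne_zero Subgroup.index_ne_zero_of_finite))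
    have h3 : C.relIndex H = Nat.card O := by
      have e := (C.subgroupOf H).card_mul_index
      rw [Nat.card_congr (subgroupOfEquivOfLe (inf_le_left : C ≤ H)).toEquiv, ← hO, mul_comm] at e
      exact Nat.eq_of_mul_eq_mul_right Nat.card_pos e
    calc Nat.card I = Nat.card (C.subgroupOf I) * C.relIndex I := (Subgroup.card_mul_index _).symm
      _ ≤ 2 * Nat.card O := Nat.mul_le_mul h1 (h3 ▸ h2)
  have hHO : 2 * Nat.card O ≤ Nat.card H := by
    rw [← hO, mul_comm]
    exact Nat.mul_le_mul_left _ hC2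
  -- H acts faithfully on D
  haveI hDc : IsCyclic D := hh.stabDer_cyclic a
  have hDcard : Nat.card D = Nat.card Ω - 1 := hh.card_stabDer' hab
  let act : H →* MulAut D :=
    { toFun := fun k =>
        { toFun := fun f => ⟨(k : G) * f * (k : G)⁻¹, stabDer_conj a k.2.1 f.2⟩
          invFun := fun f => ⟨(k : G)⁻¹ * f * (k : G)⁻¹⁻¹, stabDer_conj a (inv_mem k.2.1) f.2⟩
          left_inv := fun f => Subtype.ext (by group)
          right_inv := fun f => Subtype.ext (by group)
          map_mul' := fun f f' => Subtype.ext (by simp only [Subgroup.coe_mul]; group) }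
      map_one' := MulEquiv.ext fun f => Subtype.ext (by simp)
      map_mul' := fun k k' => MulEquiv.ext fun f => Subtype.ext (by
        show ((k : G) * k') * f * ((k : G) * k')⁻¹ = (k : G) * ((k' : G) * f * (k' : G)⁻¹) * (k : G)⁻¹
        group) }
  have hcentD : ∀ k ∈ H, (∀ f ∈ D, k * f = f * k) → k = 1 := by
    intro k hk hc
    refine eq_one_of_fix (Ω := Ω) fun x => ?_
    by_cases hx : x = a
    · rw [hx]; exact hk.1
    obtain ⟨f, hf, rfl⟩ := hh.stabDer_moves hab hx
    rw [← mul_smul, hc f hf, mul_smul, mem_stabilizer_iff.1 hk.2]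
  have hact : Function.Injective act := by
    rw [injective_iff_map_eq_one]
    intro k hk
    refine Subtype.ext (hcentD k k.2 fun f hf => ?_)
    have := congrArg Subtype.val (DFunLike.congr_fun hk ⟨f, hf⟩)
    exact mul_inv_eq_iff_eq_mul.1 this
  have hHle : Nat.card H ≤ Nat.totient (Nat.card Ω - 1) := by
    rw [← hDcard, ← IsCyclic.card_mulAut D]
    exact Nat.card_le_card_of_injective _ hact
  have htot := Nat.totient_lt (Nat.card Ω - 1) (by omega)
  have hHn : Nat.card H = Nat.card Ω - 2 := by omega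
  have hp : (Nat.card Ω - 1).Prime := (Nat.totient_eq_iff_prime (by omega)).1 (by omega)
  have hIH : I = H := Subgroup.eq_of_le_of_card_ge hI_H (by omega)
  have hOinv : ∀ x : G, x * x = 1 → x • a = b → (∀ y : Ω, x • y ≠ y) → x ∈ O := by
    intro x hx1 hx2 hx3
    have heq : O ∪ Sc b = Inv := Set.eq_of_subset_of_ncard_le hsub (by
      rw [Set.ncard_union_eq hdisj, ← Nat.card_coe_set_eq, ← Nat.card_coe_set_eq, ← Nat.card_coe_set_eq,
        hInvI, hIH]
      omega)
    rcases (show x ∈ O ∪ Sc b from heq.symm ▸ ⟨hx1, hx2⟩) with e | ⟨⟨g, rfl⟩, -⟩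
    · exact e
    · exact absurd (hconja g).1 (hx3 _)
  have hsharp : ∀ k ∈ H, ∀ c : Ω, c ≠ a → c ≠ b → k • c = c → k = 1 := by
    intro k hk c hca hcb hkc
    obtain ⟨f, hf, rfl⟩ := hh.stabDer_moves hab hca
    have hkf : k * f = f * k := by
      have h1 : f⁻¹ * (k * f * k⁻¹) = 1 := hh.stabDer_semiregular hab
        (mul_mem (inv_mem hf) (stabDer_conj a hk.1 hf)) (by
          rw [mul_smul, mul_smul, mul_smul, mem_stabilizer_iff.1 (inv_mem hk).2, hkc, inv_smul_smul])
      exact mul_inv_eq_iff_eq_mul.1 (inv_mul_eq_one.1 h1).symm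
    have hf1 : f ≠ 1 := fun e => hcb (by rw [e, one_smul])
    have hgen : zpowers f = D := Subgroup.eq_of_le_of_card_ge (zpowers_le.2 hf) (by
      have hd := Subgroup.orderOf_dvd_natCard D hf
      rw [hDcard] at hd ⊢
      rw [Nat.card_zpowers]
      rcases (Nat.dvd_prime hp).1 hd with e | e
      · exact absurd (orderOf_eq_one_iff.1 e) hf1
      · omega)
    refine hcentD k hk fun f' hf' => ?_
    rw [← hgen, mem_zpowers_iff] at hf'
    obtain ⟨j, rfl⟩ := hf'
    exact ((show Commute k f from hkf).zpow_right j).eq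
  have hcard2 : ∀ c d : Ω, d ≠ c → Nat.card (stabilizer G c ⊓ stabilizer G d : Subgroup G) = Nat.card Ω - 2 := by
    intro c d hdc
    rw [← hHn]
    refine Nat.eq_of_mul_eq_mul_left (show 0 < Nat.card Ω * (Nat.card Ω - 1) from
      Nat.mul_pos (by omega) (by omega)) ?_
    rw [mul_assoc, card_stab hh.tt hdc, card_group hh.tt (by omega) c, mul_assoc, card_stab hh.tt hab,
      card_group hh.tt (by omega) a]
  have hthree : ∀ (g : G) (x y w : Ω), x ≠ y → y ≠ w → x ≠ w → g • x = x → g • y = y → g • w = w → g = 1 := by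
    intro g x y w hxy hyw hxw gx gy gw
    obtain ⟨m, hmx, hmy⟩ := hh.tt hxy hab.symm
    have e : m * g * m⁻¹ = 1 := hsharp _ ⟨by
        show (m * g * m⁻¹) • a = a
        rw [mul_smul, mul_smul, ← hmx, inv_smul_smul, gx], by
        show (m * g * m⁻¹) • b = b
        rw [mul_smul, mul_smul, ← hmy, inv_smul_smul, gy]⟩ (m • w)
      (fun e => hxw (MulAction.injective m (hmx.trans e.symm)))
      (fun e => hyw (MulAction.injective m (hmy.trans e.symm)))
      (by rw [mul_smul, mul_smul, inv_smul_smul, gw])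
    exact conj_eq_one_iff.1 e
  have hswap : ∀ (g : G) (x y : Ω), x ≠ y → g • x = y → g • y = x → g * g = 1 := by
    intro g x y hxy gx gy
    obtain ⟨m, hmx, hmy⟩ := hh.tt hxy hab.symm
    have hk : z * (m * g * m⁻¹) ∈ H := ⟨by
        show (z * (m * g * m⁻¹)) • a = a
        rw [mul_smul, mul_smul, mul_smul, ← hmx, inv_smul_smul, gx, hmy, s.zb, hmx], by
        show (z * (m * g * m⁻¹)) • b = b
        rw [mul_smul, mul_smul, mul_smul, ← hmy, inv_smul_smul, gy, hmx, s.za, hmy]⟩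
    have e := (hIH.symm ▸ hk : z * (m * g * m⁻¹) ∈ I).2
    rw [← mul_assoc z z, s.zz, one_mul] at e
    have : m * (g * g) * m⁻¹ = 1 := by rw [← e]; group
    exact conj_eq_one_iff.1 this
  have hconj : ∀ x : G, IsFpfInv (Ω := Ω) x → ∃ g : G, g * x * g⁻¹ = z := by
    intro x hx
    obtain ⟨m, hma, hmb⟩ := hh.tt (hx.2 a).symm hab.symm
    have hmem : m * x * m⁻¹ ∈ O := by
      refine hOinv _ ?_ ?_ fun y e => ?_
      · calc m * x * m⁻¹ * (m * x * m⁻¹) = m * (x * x) * m⁻¹ := by group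
          _ = 1 := by rw [hx.1]; group
      · rw [mul_smul, mul_smul]
        have : m⁻¹ • a = a := by rw [inv_smul_eq_iff, hma]
        rw [this, hmb]
      · rw [mul_smul, mul_smul, smul_eq_iff_eq_inv_smul] at e
        exact hx.2 _ e
    obtain ⟨k, -, hk⟩ := hmem
    refine ⟨k⁻¹ * m, ?_⟩
    calc k⁻¹ * m * x * (k⁻¹ * m)⁻¹ = k⁻¹ * (m * x * m⁻¹) * k := by group
      _ = z := by rw [hk]; group
  -- h inverts A
  have hC : ∀ k ∈ C, k = 1 ∨ k = h := by
    intro k hk
    have hk2 : k * k = 1 := by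
      have e := (hIH.symm ▸ hk.1 : k ∈ I).2
      have hkC : k * z = z * k := mem_centralizer_singleton_iff.1 hk.2
      rw [← hkC, mul_assoc k z, ← mul_assoc z k, ← hkC, mul_assoc k z z, s.zz, mul_one] at e
      exact e
    by_cases h1 : k = 1
    · exact Or.inl h1
    · exact Or.inr (cyclic_inv_unique hHc hk.1 hhH (orderOf_two_iff.2 ⟨hk2, h1⟩) s.hord)
  have hzinj : Function.Injective (fun x : Ω => z • x) := MulAction.injective z
  have hinvA : ∀ α ∈ A, α * h * (α * h) = 1 := by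
    intro α hα
    have hzh : z * h * (z * h) = 1 := by
      rw [mul_assoc, ← mul_assoc h, ← s.comm_h hh, mul_assoc z h h, s.hinv, mul_one, s.zz]
    by_cases hc1 : α • a = a
    · rw [semiregular A s.cyc s.trans hα hc1, one_mul, s.hinv]
    by_cases hc2 : α • a = b
    · have : z⁻¹ * α = 1 := semiregular A s.cyc s.trans (mul_mem (inv_mem s.mem) hα)
        (show (z⁻¹ * α) • a = a by rw [mul_smul, hc2, s.zi, s.zb])
      rw [← inv_mul_eq_one.1 this]
      exact hzh
    have hac : a ≠ α • a := Ne.symm hc1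
    have hzc_a : z • α • a ≠ a := fun e => hc2 (hzinj (e.trans s.zb.symm))
    obtain ⟨d, hd, hd2⟩ : ∃ g : G, g • a = α • a ∧ g • α • a = a := hh.tt hac hac.symm
    -- adjust inside the pair stabiliser
    have hW : ∃ g : G, g • a = α • a ∧ g • α • a = a ∧ g • b = z • α • a := by
      set c := α • a with hcdef
      have htr : ∀ y : Ω, y ≠ a → y ≠ c → ∃ k : G, k • a = a ∧ k • c = c ∧ k • (d • b) = y := by
        intro y hya hyc
        have hdb1 : d • b ≠ a := fun e => hc2 (MulAction.injective d (hd2.trans e.symm))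
        have hdb2 : d • b ≠ c := fun e => hab (MulAction.injective d (e.trans hd.symm))
        set K := stabilizer G a ⊓ stabilizer G c
        have hmove := card_moves K (d • b) {w | w ≠ a ∧ w ≠ c ∧ ∃ k ∈ K, k • (d • b) = w}
          (fun k hk => ⟨fun e => hdb1 (MulAction.injective k (e.trans hk.1.symm)),
            fun e => hdb2 (MulAction.injective k (e.trans hk.2.symm)), k, hk, rfl⟩)
          fun w hw => hw.2.2
        have hbot : K ⊓ stabilizer G (d • b) = ⊥ := (Subgroup.eq_bot_iff_forall _).2 fun k hk =>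
          hthree k a c (d • b) hac hdb2.symm hdb1.symm hk.1.1 hk.1.2 hk.2
        rw [hbot, Subgroup.card_bot, mul_one, hcard2 a c hac.symm] at hmove
        have hsubset : {w | w ≠ a ∧ w ≠ c ∧ ∃ k ∈ K, k • (d • b) = w} ⊆ ({a, c} : Set Ω)ᶜ := by
          rintro w ⟨h1, h2, -⟩
          simp [h1, h2]
        have heq := Set.eq_of_subset_of_ncard_le hsubset (by
          rw [Set.ncard_compl, Set.ncard_pair hac, ← Nat.card_coe_set_eq, hmove])
        have hy : y ∈ ({a, c} : Set Ω)ᶜ := by simp [hya, hyc]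
        rw [← heq] at hy
        obtain ⟨-, -, k, hk, hky⟩ := hy
        exact ⟨k, hk.1, hk.2, hky⟩
      obtain ⟨k, hka, hkc, hkb⟩ := htr (z • c) hzc_a (s.fpf c)
      exact ⟨k * d, by rw [mul_smul, hd, hkc], by rw [mul_smul, hd2, hka], by rw [mul_smul, hkb]⟩
    obtain ⟨g, hga, hgc, hgb⟩ := hW
    have hgg := hswap g a (α • a) hac hga hgc
    have hgz : g • z • α • a = b := by rw [← hgb, ← mul_smul, hgg, one_smul]
    have hgzg : g * z * g = z := by
      refine (inv_mul_eq_one.1 (hthree (z⁻¹ * (g * z * g)) a b (α • a) hab.symm (Ne.symm hc2) hac ?_ ?_ ?_)).symm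
      · rw [mul_smul, mul_smul, mul_smul, hga, hgz, s.zi, s.zb]
      · rw [mul_smul, mul_smul, mul_smul, hgb, s.z_zsmul, hgc, s.zi, s.za]
      · rw [mul_smul, mul_smul, mul_smul, hgc, s.za, hgb, s.zi, s.z_zsmul]
    have hgcomm : g * z = z * g := by
      have : g * z * g * g = z * g := by rw [hgzg]
      rwa [mul_assoc, hgg, mul_one] at this
    have hkC : g * (α * h) ∈ C := by
      refine ⟨⟨?_, ?_⟩, mem_centralizer_singleton_iff.2 ?_⟩
      · show (g * (α * h)) • a = a
        rw [mul_smul, mul_smul, s.ha, hgc]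
      · show (g * (α * h)) • b = b
        rw [mul_smul, mul_smul, s.hb, ← s.za, ← mul_smul α, s.comm_z hα, mul_smul, hgz, s.za]
      · exact ((show Commute g z from hgcomm).mul_left
          ((show Commute α z from s.comm_z hα).mul_left (s.comm_h hh).symm)).eq
    rcases hC _ hkC with e | e
    · have e' : α * h = g := by
        rw [eq_inv_of_mul_eq_one_right e, inv_eq_of_mul_eq_one_right hgg]
      rw [e', hgg]
    · exfalso
      have e' : α = g := by
        have h1 : g * α = 1 := by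
          rw [← mul_assoc] at e
          exact mul_right_cancel (e.trans (one_mul h).symm)
        rw [eq_inv_of_mul_eq_one_right h1, inv_eq_of_mul_eq_one_right hgg]
      rcases s.inv_of_A hα (e' ▸ hgg) with h1 | h1
      · exact hc1 (by rw [h1, one_smul])
      · exact hc2 (by rw [h1, s.za])
  have hsecond : ∃ w : G, IsFpfInv (Ω := Ω) w ∧ w ≠ z ∧ w * z = z * w := by
    obtain ⟨α, hα⟩ := s.cyc.exists_generator
    refine ⟨α * h, ⟨hinvA α α.2, fun y hy => ?_⟩, fun e => ?_, ?_⟩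
    · obtain ⟨β, hβ, rfl⟩ := s.trans a y
      have hhβ : h * β = β⁻¹ * h := by
        have e := hinvA β hβ
        rw [mul_assoc] at e
        calc h * β = β⁻¹ * (β * (h * (β * h))) * h⁻¹ := by group
          _ = β⁻¹ * h := by rw [e, mul_one, s.hi]
      rw [← mul_smul, mul_assoc, hhβ, ← mul_assoc, mul_smul, s.ha] at hy
      have h1 : β⁻¹ * ((α : G) * β⁻¹) = 1 := semiregular A s.cyc s.trans
        (mul_mem (inv_mem hβ) (mul_mem α.2 (inv_mem hβ)))
        (show (β⁻¹ * ((α : G) * β⁻¹)) • a = a by rw [mul_smul, hy, inv_smul_smul])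
      have h2 : α = (⟨β, hβ⟩ : A) * ⟨β, hβ⟩ :=
        Subtype.ext (mul_inv_eq_iff_eq_mul.1 (inv_mul_eq_one.1 h1).symm)
      obtain ⟨j, hj⟩ := mem_zpowers_iff.1 (hα ⟨β, hβ⟩)
      have h3 : α ^ (2 * j - 1) = 1 := by
        have e2 : α ^ (2 * j) = α := by
          rw [two_mul, zpow_add, hj, ← h2]
        rw [zpow_sub, zpow_one, e2, mul_inv_cancel]
      have hord : orderOf α = Nat.card A := orderOf_eq_card_of_forall_mem_zpowers hα
      have hdvd : (Nat.card Ω : ℤ) ∣ 2 * j - 1 := by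
        rw [← card_regular A s.cyc s.trans a, ← hord]
        exact orderOf_dvd_iff_zpow_eq_one.2 h3
      obtain ⟨m, hm⟩ := hh.even
      have : (2 : ℤ) ∣ 2 * j - 1 := (show (2 : ℤ) ∣ (Nat.card Ω : ℤ) by omega).trans hdvd
      omega
    · have hhA : h ∈ A := by
        have := mul_mem (inv_mem α.2) (e ▸ s.mem : (α : G) * h ∈ A)
        rwa [inv_mul_cancel_left] at this
      exact s.h_ne (semiregular A s.cyc s.trans hhA s.ha)
    · exact ((show Commute (α : G) z from s.comm_z α.2).mul_left (s.comm_h hh).symm).eq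
  refine ⟨hp, hcard2, hthree, fun x y hx hy => ?_, fun x hx => ?_⟩
  · obtain ⟨g, hg⟩ := hconj x hx
    obtain ⟨g', hg'⟩ := hconj y hy
    refine ⟨g'⁻¹ * g, ?_⟩
    calc g'⁻¹ * g * x * (g'⁻¹ * g)⁻¹ = g'⁻¹ * (g * x * g⁻¹) * g' := by group
      _ = g'⁻¹ * (g' * y * g'⁻¹) * g' := by rw [hg, hg']
      _ = y := by group
  · obtain ⟨g, hg⟩ := hconj x hx
    obtain ⟨w, hw, hwne, hwz⟩ := hsecond
    refine ⟨g⁻¹ * w * g, ⟨?_, fun y e => ?_⟩, fun e => hwne ?_, ?_⟩
    · calc g⁻¹ * w * g * (g⁻¹ * w * g) = g⁻¹ * (w * w) * g := by group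
        _ = 1 := by rw [hw.1]; group
    · rw [mul_smul, mul_smul, inv_smul_eq_iff] at e
      exact hw.2 _ e
    · rw [← hg, ← e]; group
    · calc g⁻¹ * w * g * x = g⁻¹ * (w * (g * x * g⁻¹)) * g := by group
        _ = g⁻¹ * ((g * x * g⁻¹) * w) * g := by rw [hg, hwz]
        _ = x * (g⁻¹ * w * g) := by group

end sharpCase

section moreFixed

variable {A : Subgroup G} {a b : Ω} {z h : G}

/-- If `h` fixes more than two points, the action of its centraliser on the fixed points gives a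
contradiction. -/
theorem false_of_more (hh : Hyp G Ω) (s : Setup A a b z h) {x0 : Ω} (hx0 : h • x0 = x0)
    (hx0a : x0 ≠ a) (hx0b : x0 ≠ b)
    (ih : ∀ (G' Ω' : Type u) [Group G'] [MulAction G' Ω'] [Finite G'] [Finite Ω'] [FaithfulSMul G' Ω'],
      Nat.card Ω' < Nat.card Ω → Hyp G' Ω' → Sharp G' Ω') : False := by
  classical
  cases nonempty_fintype Ω
  have h4 := hh.four
  have hab := s.hne
  set D := stabDer (G := G) a
  have hHc := hh.two_cyclic hab
  let B : Set Ω := {y | h • y = y}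
  set L := centralizer ({h} : Set G)
  have hL : ∀ {g : G}, g ∈ L ↔ g * h = h * g := mem_centralizer_singleton_iff
  have hB : ∀ g ∈ L, ∀ y ∈ B, g • y ∈ B := fun g hg y hy => by
    show h • g • y = g • y
    rw [← mul_smul, ← hL.1 hg, mul_smul, hy]
  have haB : a ∈ B := s.ha
  have hbB : b ∈ B := s.hb
  have hzL : z ∈ L := hL.2 (s.comm_h hh)
  have hDB : ∀ c ∈ B, c ≠ a → ∃ f ∈ D ⊓ L, f • b = c := by
    intro c hc hca
    obtain ⟨f, hf, rfl⟩ := hh.stabDer_moves hab hca
    refine ⟨f, ⟨hf, hL.2 ?_⟩, rfl⟩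
    have h1 : f⁻¹ * (h * f * h⁻¹) = 1 := hh.stabDer_semiregular hab
      (mul_mem (inv_mem hf) (stabDer_conj a s.ha hf)) (by
        rw [mul_smul, mul_smul, mul_smul, s.hi, s.hb, (hc : h • f • b = f • b), inv_smul_smul])
    exact (mul_inv_eq_iff_eq_mul.1 (inv_mul_eq_one.1 h1).symm).symm
  have httB : TT (restrictHom L B hB).range B := tt_restrict hB (by
    intro c hc d hd c' hc' d' hd' hcd hcd'
    obtain ⟨g, hg, h1, h2⟩ := s.move_fix hh hc hd hcd.symm
    obtain ⟨g', hg', h1', h2'⟩ := s.move_fix hh hc' hd' hcd'.symm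
    exact ⟨g' * g⁻¹, mul_mem (hL.2 hg') (inv_mem (hL.2 hg)), by rw [mul_smul, ← h1, inv_smul_smul, h1'],
      by rw [mul_smul, ← h2, inv_smul_smul, h2']⟩)
  have hBcard : 3 ≤ Nat.card B := by
    rw [Nat.card_coe_set_eq]
    refine le_trans ?_ (Set.ncard_le_ncard (s := ({x0, a, b} : Set Ω)) ?_)
    · rw [Set.ncard_insert_of_notMem (by simp [hx0a, hx0b]), Set.ncard_pair hab.symm]
    · rintro y (rfl | rfl | rfl)
      · exact hx0
      · exact haB
      · exact hbB
  have hBeven : Even (Nat.card B) := by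
    have e := card_moves (D ⊓ L) b {y | y ∈ B ∧ y ≠ a}
      (fun g hg => ⟨hB g hg.2 b hbB, fun e => hab (MulAction.injective g (e.trans (stabDer_le a hg.1).symm))⟩)
      fun c hc => hDB c hc.1 hc.2
    have hbot : D ⊓ L ⊓ stabilizer G b = ⊥ := (Subgroup.eq_bot_iff_forall _).2 fun x hx =>
      hh.stabDer_semiregular hab hx.1.1 hx.2
    rw [hbot, Subgroup.card_bot, mul_one] at e
    have hodd : Odd (Nat.card {y | y ∈ B ∧ y ≠ a}) := by
      have hodd : Odd (Nat.card Ω - 1) := by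
        obtain ⟨m, hm⟩ := hh.even
        rw [Nat.odd_iff]
        omega
      refine hodd.of_dvd_nat ?_
      rw [e, ← hh.card_stabDer' hab]
      exact Subgroup.card_dvd_of_le inf_le_left
    have hset : {y | y ∈ B ∧ y ≠ a} = B \ {a} := rfl
    rw [hset, Nat.card_coe_set_eq] at hodd
    rw [Nat.card_coe_set_eq, ← Set.ncard_sdiff_singleton_add_one haB]
    exact hodd.add_one
  have hBlt : Nat.card B < Nat.card Ω := by
    refine lt_of_le_of_ne (Nat.card_le_card_of_injective _ Subtype.val_injective) fun e => s.h_ne ?_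
    refine eq_one_of_fix (Ω := Ω) fun y => ?_
    have hBu : B = Set.univ := Set.eq_of_subset_of_ncard_le (Set.subset_univ _)
      (by rw [Set.ncard_univ, ← e, Nat.card_coe_set_eq])
    exact (hBu.symm ▸ Set.mem_univ y : y ∈ B)
  have hAm : ∀ y ∈ B, ∃ g ∈ A, g ∈ L ∧ g • a = y := by
    intro y hy
    obtain ⟨g, hg, hgy⟩ := s.trans a y
    refine ⟨g, hg, hL.2 ?_, hgy⟩
    have hgb : g • b = z • y := by rw [← s.za, ← mul_smul, s.comm_z hg, mul_smul, hgy]
    have e : g * h * g⁻¹ = h := conj_eq_of_pair hh (by rw [orderOf_conj', s.hord]) s.hord (s.fpf y)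
      (by rw [mul_smul, mul_smul, ← hgy, inv_smul_smul, s.ha])
      (by rw [mul_smul, mul_smul, ← hgb, inv_smul_smul, s.hb]) hy (hB z hzL y hy)
    conv_rhs => rw [← e]
    rw [inv_mul_cancel_right]
  have hypB : Hyp (restrictHom L B hB).range B := by
    refine ⟨httB, hBeven, ?_, ?_, ?_⟩
    · obtain ⟨m, hm⟩ := hBeven; omega
    · intro c
      let M' := L ⊓ stabilizer G (c : Ω)
      haveI : IsZGroup (stabilizer G (c : Ω)) := hh.zg c
      haveI : IsZGroup M' :=
        IsZGroup.of_injective (f := Subgroup.inclusion (inf_le_right : M' ≤ _)) (Subgroup.inclusion_injective _)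
      let ψ : M' →* stabilizer (restrictHom L B hB).range c :=
        ((restrictHom L B hB).rangeRestrict.comp (Subgroup.inclusion (inf_le_left : M' ≤ L))).codRestrict _
          fun g => Subtype.ext (mem_stabilizer_iff.1 g.2.2)
      refine IsZGroup.of_surjective (f := ψ) ?_
      rintro ⟨⟨_, g, rfl⟩, hg⟩
      exact ⟨⟨g, g.2, mem_stabilizer_iff.2 (congrArg Subtype.val (mem_stabilizer_iff.1 hg))⟩, rfl⟩
    · refine ⟨((A ⊓ L).subgroupOf L).map (restrictHom L B hB).rangeRestrict, ?_, ?_⟩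
      · haveI := s.cyc
        haveI : IsCyclic (A ⊓ L : Subgroup G) := Subgroup.isCyclic_of_le inf_le_left
        haveI : IsCyclic ((A ⊓ L).subgroupOf L) :=
          isCyclic_of_surjective _ (subgroupOfEquivOfLe (inf_le_right : A ⊓ L ≤ L)).symm.surjective
        exact isCyclic_of_surjective _ ((restrictHom L B hB).rangeRestrict.subgroupMap_surjective _)
      · intro c d
        obtain ⟨g, hg, hgL, hgc⟩ := hAm c c.2
        obtain ⟨g', hg', hgL', hgd⟩ := hAm d d.2
        refine ⟨(restrictHom L B hB).rangeRestrict ⟨g' * g⁻¹, mul_mem hgL' (inv_mem hgL)⟩,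
          Subgroup.mem_map_of_mem _ (Subgroup.mem_subgroupOf.2
            (show g' * g⁻¹ ∈ A ⊓ L from ⟨A.mul_mem hg' (A.inv_mem hg), L.mul_mem hgL' (L.inv_mem hgL)⟩)),
          Subtype.ext ?_⟩
        show (g' * g⁻¹) • (c : Ω) = d
        rw [mul_smul, ← hgc, inv_smul_smul, hgd]
  have hX := ih _ _ hBlt hypB
  let π : L →* (restrictHom L B hB).range := (restrictHom L B hB).rangeRestrict
  have hπ : ∀ g g' : L, π g = π g' ↔ ∀ y ∈ B, (g : G) • y = (g' : G) • y := by
    intro g g'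
    constructor
    · intro e y hy
      exact congrArg Subtype.val (Equiv.congr_fun (congrArg Subtype.val e) ⟨y, hy⟩)
    · intro e
      exact Subtype.ext (Equiv.ext fun y => Subtype.ext (e y y.2))
  have hfpfπ : ∀ g : L, π g * π g = 1 → (∀ y ∈ B, (g : G) • y ≠ y) → IsFpfInv (Ω := B) (π g) :=
    fun g h1 h2 => ⟨h1, fun y e => h2 y y.2 (congrArg Subtype.val e)⟩
  have hzfpf : IsFpfInv (Ω := B) (π ⟨z, hzL⟩) :=
    hfpfπ _ (by rw [← map_mul]; exact (congrArg π (Subtype.ext s.zz : (⟨z, hzL⟩ * ⟨z, hzL⟩ : L) = 1)).trans (map_one π))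
      fun y _ => s.fpf y
  -- z centralises the kernel
  have hKz : ∀ k ∈ L, (∀ y ∈ B, k • y = y) → z * k = k * z := by
    intro k hkL hk
    have hkH : k ∈ stabilizer G a ⊓ stabilizer G b := ⟨hk a haB, hk b hbB⟩
    have hFK : ∀ k' ∈ L, (∀ y ∈ B, k' • y = y) → ∀ f ∈ D ⊓ L, f * k' = k' * f := by
      intro k' hk'L hk' f hf
      have h1 : f * (k' * f⁻¹ * k'⁻¹) = 1 := hh.stabDer_semiregular hab
        (mul_mem hf.1 (stabDer_conj a (hk' a haB) (inv_mem hf.1))) (by
          rw [mul_smul, mul_smul, mul_smul]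
          have : k'⁻¹ • b = b := by rw [inv_smul_eq_iff, hk' b hbB]
          rw [this, hk' _ (hB _ (inv_mem hf.2) b hbB), smul_inv_smul])
      have h2 := eq_inv_of_mul_eq_one_right h1
      have h3 : k' * f⁻¹ = f⁻¹ * k' := by rw [mul_inv_eq_iff_eq_mul] at h2; exact h2
      calc f * k' = f * (k' * f⁻¹) * f := by group
        _ = k' * f := by rw [h3]; group
    have hzkz : ∀ y ∈ B, (z * k * z) • y = y := fun y hy => by
      rw [mul_smul, mul_smul, hk _ (hB z hzL y hy), s.z_zsmul]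
    have hkz : z * k * z ∈ L := mul_mem (mul_mem hzL hkL) hzL
    have hF' : ∀ f ∈ D ⊓ L, Commute (z * f * z) k := by
      intro f hf
      have e : f * (z * k * z) = z * k * z * f := hFK _ hkz hzkz f hf
      show z * f * z * k = k * (z * f * z)
      calc z * f * z * k = z * (f * (z * k * z)) * z⁻¹ := by group
        _ = z * (z * k * z * f) * z⁻¹ := by rw [e]
        _ = z * z * k * (z * f * z⁻¹) := by group
        _ = k * (z * f * z) := by rw [s.zz, one_mul, s.zi]
    have hfz : ∀ f ∈ D ⊓ L, (z * f * z) • b = b := fun f hf => by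
      rw [mul_smul, mul_smul, s.zb, mem_stabilizer_iff.1 (stabDer_le a hf.1), s.za]
    have hzx0 : z • x0 ≠ a := fun e => hx0b (MulAction.injective z (e.trans s.zb.symm))
    obtain ⟨f0, hf0, hf0b⟩ := hDB (z • x0) (hB z hzL x0 hx0) hzx0
    have h_ac : (z * f0 * z) • a = x0 := by rw [mul_smul, mul_smul, s.za, hf0b, s.z_zsmul]
    obtain ⟨f1, hf1, hf1b⟩ := hDB x0 hx0 hx0a
    have hy : (f1⁻¹ * (z * f0 * z)) • a = b := by rw [mul_smul, h_ac, inv_smul_eq_iff, hf1b]
    have hyb : (f1⁻¹ * (z * f0 * z)) • b = f1⁻¹ • b := by rw [mul_smul, hfz f0 hf0]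
    have he : f1⁻¹ • b ≠ b := fun e => hx0b (by rw [← hf1b]; exact (inv_smul_eq_iff.1 e).symm)
    have heB : f1⁻¹ • b ∈ B := hB _ (inv_mem hf1.2) b hbB
    have hzea : z • f1⁻¹ • b ≠ a := fun e => he (MulAction.injective z (e.trans s.zb.symm))
    obtain ⟨f2, hf2, hf2b⟩ := hDB (z • f1⁻¹ • b) (hB z hzL _ heB) hzea
    set g := z * f2⁻¹ * z * (f1⁻¹ * (z * f0 * z)) with hgdef
    have hga : g • a = b := by rw [hgdef, mul_smul _ _ a, hy, hfz _ (inv_mem hf2)]
    have hgb : g • b = a := by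
      rw [hgdef, mul_smul _ _ b, hyb, mul_smul, mul_smul, ← hf2b, inv_smul_smul, s.zb]
    have hgk : Commute g k :=
      (hF' _ (inv_mem hf2)).mul_left ((show Commute f1⁻¹ k from hFK k hkL hk _ (inv_mem hf1)).mul_left (hF' _ hf0))
    have hzg : z * g ∈ stabilizer G a ⊓ stabilizer G b := ⟨by
        show (z * g) • a = a
        rw [mul_smul, hga, s.zb], by
        show (z * g) • b = b
        rw [mul_smul, hgb, s.za]⟩
    have e : Commute (z * g) k := comm_of_cyclic hHc hzg hkH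
    have := e.mul_left hgk.inv_left
    rwa [mul_inv_cancel_right] at this
  have hK2 : ∀ k ∈ L, (∀ y ∈ B, k • y = y) → (z * k) * (z * k) = 1 → k = 1 ∨ k = h := by
    intro k hkL hk e
    have hc := hKz k hkL hk
    rw [hc, mul_assoc k z, ← mul_assoc z k, hc, mul_assoc k z z, s.zz, mul_one] at e
    by_cases h1 : k = 1
    · exact Or.inl h1
    · exact Or.inr (cyclic_inv_unique hHc ⟨hk a haB, hk b hbB⟩ ⟨s.ha, s.hb⟩
        (orderOf_two_iff.2 ⟨e, h1⟩) s.hord)
  -- a conjugate of h interchanging a and b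
  obtain ⟨y0, hy0⟩ : ∃ y : Ω, h • y ≠ y := by
    by_contra hc
    push Not at hc
    exact s.h_ne (eq_one_of_fix hc)
  obtain ⟨g0, hg0a, hg0b⟩ := hh.tt (Ne.symm hy0) hab.symm
  set h' := g0 * h * g0⁻¹ with hh'def
  have hh'a : h' • a = b := by rw [hh'def, mul_smul, mul_smul, ← hg0a, inv_smul_smul, hg0b]
  have hh'2 : h' * h' = 1 := (orderOf_two_iff.1 (by rw [hh'def, orderOf_conj', s.hord])).1
  have hh'b : h' • b = a := by rw [← hh'a, ← mul_smul, hh'2, one_smul]
  have hh'i : h'⁻¹ = h' := inv_eq_of_mul_eq_one_right hh'2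
  have hh'L : h' ∈ L := by
    refine hL.2 ?_
    have e : h' * h * h'⁻¹ = h := conj_eq_of_pair hh (by rw [orderOf_conj', s.hord]) s.hord hab
      (by rw [hh'i, mul_smul, mul_smul, hh'a, s.hb, hh'b])
      (by rw [hh'i, mul_smul, mul_smul, hh'b, s.ha, hh'a]) s.ha s.hb
    conv_rhs => rw [← e]
    rw [inv_mul_cancel_right]
  have hh'fpf : ∀ y ∈ B, h' • y ≠ y := by
    intro y hy e
    haveI : Fact (Nat.Prime 2) := ⟨Nat.prime_two⟩
    have hsq : (restrictHom L B hB ⟨h', hh'L⟩) ^ 2 ^ 1 = 1 := by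
      rw [pow_one, pow_two, ← map_mul, show (⟨h', hh'L⟩ * ⟨h', hh'L⟩ : L) = 1 from Subtype.ext hh'2,
        map_one]
    obtain ⟨y', hy', hne⟩ := Equiv.Perm.exists_fixed_point_of_prime'
      (by rw [← Nat.card_eq_fintype_card]; exact even_iff_two_dvd.1 hBeven) hsq
      (a := ⟨y, hy⟩) (Subtype.ext e)
    have hne' : (y' : Ω) ≠ y := fun e' => hne (Subtype.ext e')
    have hy'f : h' • (y' : Ω) = y' := congrArg Subtype.val hy'
    have e2 : h' = h := conj_eq_of_pair hh (by rw [hh'def, orderOf_conj', s.hord]) s.hord hne' e hy'f hy y'.2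
    rw [e2, s.ha] at hh'a
    exact hab hh'a.symm
  have hh'X : IsFpfInv (Ω := B) (π ⟨h', hh'L⟩) :=
    hfpfπ _ (by rw [← map_mul]; exact (congrArg π (Subtype.ext hh'2 : (⟨h', hh'L⟩ * ⟨h', hh'L⟩ : L) = 1)).trans (map_one π))
      hh'fpf
  obtain ⟨ybar, hybar⟩ := hX.conj _ _ hh'X hzfpf
  obtain ⟨y, rfl⟩ : ∃ y : L, π y = ybar := (restrictHom L B hB).rangeRestrict_surjective ybar
  rw [← map_inv, ← map_mul, ← map_mul, hπ] at hybar
  -- z h has a fixed point
  have hzh : ∃ gz : G, z * h = gz * h * gz⁻¹ := by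
    set κ := z * ((y : G) * h' * (y : G)⁻¹) with hκdef
    have hκL : κ ∈ L := mul_mem hzL (mul_mem (mul_mem y.2 hh'L) (inv_mem y.2))
    have hκB : ∀ w ∈ B, κ • w = w := fun w hw => by
      rw [hκdef, mul_smul]
      exact (congrArg (z • ·) (hybar w hw)).trans (s.z_zsmul w)
    have hzκ : z * κ = (y : G) * h' * (y : G)⁻¹ := by rw [hκdef, ← mul_assoc, s.zz, one_mul]
    have hzκ2 : z * κ * (z * κ) = 1 := by
      rw [hzκ]
      calc (y : G) * h' * (y : G)⁻¹ * ((y : G) * h' * (y : G)⁻¹) = (y : G) * (h' * h') * (y : G)⁻¹ := by group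
        _ = 1 := by rw [hh'2]; group
    rcases hK2 κ hκL hκB hzκ2 with e | e
    · exfalso
      rw [e, mul_one, hh'def] at hzκ
      refine s.fpf ((y : G) • g0 • a) ?_
      rw [hzκ]
      simp only [mul_smul, inv_smul_smul, s.ha]
    · refine ⟨(y : G) * g0, ?_⟩
      rw [e] at hzκ
      rw [hzκ, hh'def]
      group
  obtain ⟨gz, hgz⟩ := hzh
  have hzhfix : (z * h) • (gz • a) = gz • a := by rw [hgz, mul_smul, mul_smul, inv_smul_smul, s.ha]
  -- a second fixed point free involution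
  obtain ⟨w, hw, hwne, hwz⟩ := hX.second _ hzfpf
  obtain ⟨y2bar, hy2bar⟩ := hX.conj _ _ hzfpf hw
  obtain ⟨y2, rfl⟩ : ∃ y : L, π y = y2bar := (restrictHom L B hB).rangeRestrict_surjective y2bar
  have hhL : h ∈ L := hL.2 rfl
  let x : L := y2 * (⟨z, hzL⟩ * ⟨h, hhL⟩) * y2⁻¹
  have hπh : π ⟨h, hhL⟩ = 1 := by
    rw [← map_one π, hπ]
    intro v hv
    rw [show ((1 : L) : G) = 1 from rfl, one_smul]
    exact hv
  have hxw : π x = w := by
    rw [← hy2bar, map_mul, map_mul, map_inv, map_mul, hπh, mul_one]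
  have hxG : (x : G) = ((y2 : G) * gz) * h * ((y2 : G) * gz)⁻¹ := by
    show (y2 : G) * (z * h) * (y2 : G)⁻¹ = _
    rw [hgz]
    group
  have hxord : orderOf (x : G) = 2 := by rw [hxG, orderOf_conj', s.hord]
  have hxx : (x : G) * x = 1 := (orderOf_two_iff.1 hxord).1
  -- x commutes with z
  have hxz : (x : G) * z = z * x := by
    set κ := z * ((x : G) * z * x) with hκdef
    have hκL : κ ∈ L := mul_mem hzL (mul_mem (mul_mem x.2 hzL) x.2)
    have hκB : ∀ v ∈ B, κ • v = v := by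
      intro v hv
      have hcomm : π x * π ⟨z, hzL⟩ = π ⟨z, hzL⟩ * π x := by rw [hxw]; exact hwz
      rw [← map_mul, ← map_mul, hπ] at hcomm
      have e := hcomm _ (hB _ x.2 v hv)
      simp only [Subgroup.coe_mul] at e
      rw [hκdef, mul_smul, mul_smul, e, mul_smul, s.z_zsmul, ← mul_smul, hxx, one_smul]
    have hzκ : z * κ = (x : G) * z * x := by rw [hκdef, ← mul_assoc, s.zz, one_mul]
    have hzκ2 : z * κ * (z * κ) = 1 := by
      rw [hzκ]
      calc (x : G) * z * x * ((x : G) * z * x) = (x : G) * z * ((x : G) * x) * z * x := by group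
        _ = 1 := by rw [hxx, mul_one, mul_assoc (x : G) z z, s.zz, mul_one, hxx]
    rcases hK2 κ hκL hκB hzκ2 with e | e
    · rw [e, mul_one] at hzκ
      calc (x : G) * z = (x : G) * z * ((x : G) * x) := by rw [hxx, mul_one]
        _ = (x : G) * z * x * x := by group
        _ = z * x := by rw [← hzκ]
    · exfalso
      rw [e] at hzκ
      have h1 := hzhfix
      rw [hzκ, mul_smul, mul_smul, smul_eq_iff_eq_inv_smul, inv_eq_of_mul_eq_one_right hxx] at h1
      exact s.fpf _ h1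
  -- x commutes with the regular subgroup of the fixed point set
  set xf := ((y2 : G) * gz) • a with hxfdef
  have hxf : (x : G) • xf = xf := by
    rw [hxG, hxfdef, mul_smul _ _ (((y2 : G) * gz) • a), mul_smul _ h, inv_smul_smul, s.ha]
  have hxzf : (x : G) • z • xf = z • xf := by rw [← mul_smul, hxz, mul_smul, hxf]
  obtain ⟨g1, hg1, hg1a⟩ := s.trans a xf
  have hg1b : g1 • b = z • xf := by rw [← s.za, ← mul_smul, s.comm_z hg1, mul_smul, hg1a]
  have hx1 : (x : G) = g1 * h * g1⁻¹ := conj_eq_of_pair hh hxord (by rw [orderOf_conj', s.hord])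
    (s.fpf xf) hxf hxzf
    (by rw [mul_smul, mul_smul, ← hg1a, inv_smul_smul, s.ha])
    (by rw [mul_smul, mul_smul, ← hg1b, inv_smul_smul, s.hb])
  have hxA : ∀ α ∈ A, α ∈ L → Commute (x : G) α := by
    intro α hα hαL
    have h1 : Commute g1 α := comm_of_cyclic s.cyc hg1 hα
    rw [hx1]
    exact (h1.mul_left (show Commute h α from (hL.1 hαL).symm)).mul_left h1.inv_left
  obtain ⟨g', hg', hg'L, hg'a⟩ := hAm ((x : G) • a) (hB _ x.2 a haB)
  have hxg : ∀ v ∈ B, (x : G) • v = g' • v := by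
    intro v hv
    obtain ⟨α, hα, hαL, rfl⟩ := hAm v hv
    rw [← mul_smul, (hxA α hα hαL).eq, mul_smul, ← hg'a, ← mul_smul α, comm_of_cyclic s.cyc hα hg',
      mul_smul]
  have hg'2 : g' * g' = 1 := semiregular A s.cyc s.trans (mul_mem hg' hg')
    (show (g' * g') • a = a by
      rw [mul_smul, hg'a, ← hxg _ (hB _ x.2 a haB), ← mul_smul, hxx, one_smul])
  rcases s.inv_of_A hg' hg'2 with e | e
  · refine hw.2 ⟨a, haB⟩ (Subtype.ext ?_)
    rw [← hxw]
    show (x : G) • a = a
    rw [hxg a haB, e, one_smul]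
  · refine hwne ?_
    rw [← hxw, hπ]
    intro v hv
    rw [hxg v hv, e]

end moreFixed

/-- The core theorem. -/
theorem core : ∀ (n : ℕ) (G Ω : Type u) [Group G] [MulAction G Ω] [Finite G] [Finite Ω] [FaithfulSMul G Ω],
    Nat.card Ω = n → Hyp G Ω → Sharp G Ω := by
  intro n
  induction n using Nat.strong_induction_on with
  | _ n ih =>
    intro G Ω _ _ _ _ _ hn hh
    subst hn
    obtain ⟨A, a, b, z, h, s⟩ := hh.exists_setup
    by_cases hfix : ∀ x : Ω, h • x = x → x = a ∨ x = b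
    · exact sharp_of_two hh s hfix
    · push Not at hfix
      obtain ⟨x0, hx0, hxa, hxb⟩ := hfix
      exact (false_of_more hh s hx0 hxa hxb fun G' Ω' _ _ _ _ _ hlt hh' =>
        ih _ hlt G' Ω' rfl hh').elim

end Cfsg.Agent.Perm.CyclicTimesZ
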