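import Mathlib
import Cfsg.Agent.Lib.Classical.Dickson.PGLTorus
import Cfsg.Agent.Lib.Classical.Dickson.Tools
import Cfsg.Agent.Lib.Small.PSL2
import Cfsg.Agent.Lib.Small.SL2.Orders

/-!
# Facts on `PGL₂` of a prime field
-/

set_option autoImplicit false
set_option linter.unusedSectionVars false

namespace Cfsg.Agent.Perm.CyclicTimesZ.Model

open Cfsg.Agent.Small Cfsg.Agent.Small.SL2C

variable {F : Type} [Field F] [Fintype F]

local notation "SL2" => Matrix.SpecialLinearGroup (Fin 2) F
local notation "P2" => Matrix.ProjectiveSpecialLinearGroup (Fin 2) F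
local notation "G2" => Matrix.ProjGenLinGroup (Fin 2) F

/-- The image of `SL₂` in `PGL₂`. -/
def psl : Subgroup (Matrix.ProjGenLinGroup (Fin 2) F) :=
  (Matrix.ProjectiveSpecialLinearGroup.toPGL (n := Fin 2) (R := F)).range

theorem mem_psl {x : G2} : x ∈ (psl (F := F)) ↔
    ∃ A : SL2, Matrix.ProjGenLinGroup.mk (Matrix.SpecialLinearGroup.toGL A) = x := by
  constructor
  · rintro ⟨y, rfl⟩
    obtain ⟨A, rfl⟩ := PSL2.pr_surjective y
    exact ⟨A, rfl⟩
  · rintro ⟨A, rfl⟩
    exact ⟨PSL2.pr A, rfl⟩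

theorem mk_conj (g : GL (Fin 2) F) (A : SL2) :
    Matrix.ProjGenLinGroup.mk (Matrix.SpecialLinearGroup.toGL (PSL2.conjSL g A)) =
      Matrix.ProjGenLinGroup.mk g * Matrix.ProjGenLinGroup.mk (Matrix.SpecialLinearGroup.toGL A) *
        (Matrix.ProjGenLinGroup.mk g)⁻¹ := by
  rw [← map_inv, ← map_mul, ← map_mul]
  congr 1
  exact Units.ext (PSL2.conjSL_val g A)

instance psl_normal : (psl (F := F)).Normal := ⟨fun x hx g => by
  obtain ⟨A, rfl⟩ := mem_psl.1 hx
  induction g using Matrix.ProjGenLinGroup.induction_on with | mk g =>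
  exact mem_psl.2 ⟨PSL2.conjSL g A, mk_conj g A⟩⟩

/-- The isomorphism of `PSL₂` onto its image. -/
noncomputable def pslEquiv : P2 ≃* (psl (F := F)) :=
  MonoidHom.ofInjective (Matrix.ProjectiveSpecialLinearGroup.toPGL_injective)

theorem centralizer_trivial {x : G2} (h : ∀ y ∈ (psl (F := F)), x * y = y * x) : x = 1 := by
  induction x using Matrix.ProjGenLinGroup.induction_on with | mk g =>
  have e : PSL2.conjP g = 1 := by
    refine MulEquiv.ext fun y => ?_
    obtain ⟨A, rfl⟩ := PSL2.pr_surjective y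
    rw [PSL2.conjP_apply, MulAut.one_apply]
    apply Matrix.ProjectiveSpecialLinearGroup.toPGL_injective
    show Matrix.ProjGenLinGroup.mk (Matrix.SpecialLinearGroup.toGL (PSL2.conjSL g A)) =
      Matrix.ProjGenLinGroup.mk (Matrix.SpecialLinearGroup.toGL A)
    rw [mk_conj, h _ (mem_psl.2 ⟨A, rfl⟩), mul_inv_cancel_right]
  have hs := PSL2.scalar_of_conjP_eq_one e
  rw [Matrix.ProjGenLinGroup.mk_eq_one, Matrix.GeneralLinearGroup.center_eq_range_scalar]
  have hne : g.val 0 0 ≠ 0 := by
    intro h0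
    rw [h0, zero_smul] at hs
    apply Matrix.GeneralLinearGroup.det_ne_zero g
    rw [hs, Matrix.det_zero]
  refine ⟨Units.mk0 _ hne, Units.ext ?_⟩
  refine Eq.trans ?_ hs.symm
  rw [Matrix.smul_one_eq_diagonal]
  rfl

variable (hF : 3 < Fintype.card F)
include hF

theorem simple : IsSimpleGroup P2 :=
  Matrix.ProjectiveSpecialLinearGroup.rank_two_simple (by rw [Nat.card_eq_fintype_card]; omega)

theorem psl_ne_bot : (psl (F := F)) ≠ ⊥ := by
  haveI := simple hF
  intro h
  haveI : Subsingleton P2 := by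
    have : Subsingleton (psl (F := F)) := by rw [h]; infer_instance
    exact (pslEquiv (F := F)).toEquiv.subsingleton
  exact not_nontrivial P2 inferInstance

/-- Every nontrivial normal subgroup contains the image of `SL₂`. -/
theorem psl_le_of_normal (K : Subgroup G2) [K.Normal] (hK : K ≠ ⊥) : psl ≤ K := by
  haveI := simple hF
  let ι : P2 →* G2 := Matrix.ProjectiveSpecialLinearGroup.toPGL
  rcases (inferInstance : (K.comap ι).Normal).eq_bot_or_eq_top with e | e
  · exfalso
    have hdis : Disjoint (psl (F := F)) K := by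
      rw [disjoint_iff, Subgroup.eq_bot_iff_forall]
      rintro x ⟨⟨y, rfl⟩, hy⟩
      have hy' : y ∈ K.comap ι := hy
      rw [e, Subgroup.mem_bot] at hy'
      rw [hy', map_one]
    refine hK ((Subgroup.eq_bot_iff_forall K).2 fun k hk => centralizer_trivial fun y hy => ?_)
    exact Subgroup.commute_of_normal_of_disjoint K psl inferInstance inferInstance hdis.symm k y hk hy
  · rintro _ ⟨y, rfl⟩
    have : y ∈ K.comap ι := e ▸ Subgroup.mem_top y
    exact this

theorem perfect : psl ≤ ⁅(psl (F := F)), (psl (F := F))⁆ := by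
  refine psl_le_of_normal hF _ fun h => ?_
  have hc := Subgroup.commutator_eq_bot_iff_le_centralizer.1 h
  exact psl_ne_bot hF ((Subgroup.eq_bot_iff_forall _).2 fun x hx =>
    centralizer_trivial fun y hy => (Subgroup.mem_centralizer_iff.1 (hc hx) y hy).symm)

theorem not_solvable : ¬ Group.IsSolvable G2 := by
  intro h
  haveI := h
  have hder : ∀ n, psl ≤ derivedSeries G2 n := by
    intro n
    induction n with
    | zero => exact le_top
    | succ n ih =>
      rw [derivedSeries_succ]
      exact (perfect hF).trans (Subgroup.commutator_mono ih ih)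
  obtain ⟨n, hn⟩ := Group.IsSolvable.solvable (G := G2)
  exact psl_ne_bot hF (le_bot_iff.1 (hn ▸ hder n))

theorem no_solvable_normal (K : Subgroup G2) [K.Normal] (hK : Group.IsSolvable K) : K = ⊥ := by
  by_contra h
  have hle := psl_le_of_normal hF K h
  haveI := hK
  have hder : ∀ n, psl ≤ (derivedSeries K n).map K.subtype := by
    intro n
    induction n with
    | zero => rw [derivedSeries_zero, ← MonoidHom.range_eq_map, Subgroup.range_subtype]; exact hle
    | succ n ih =>
      rw [derivedSeries_succ, Subgroup.map_commutator]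
      exact (perfect hF).trans (Subgroup.commutator_mono ih ih)
  obtain ⟨n, hn⟩ := Group.IsSolvable.solvable (G := K)
  have := hder n
  rw [hn, Subgroup.map_bot] at this
  exact psl_ne_bot hF (le_bot_iff.1 this)

variable {r : ℕ} (hr : r.Prime) (hFr : Fintype.card F = r)
include hr hFr

theorem two_ne : (2 : F) ≠ 0 := by
  intro h
  haveI := Fact.mk hr
  have e := ZMod.ringEquivOfPrime F hr hFr
  have h2 : ((2 : ℕ) : ZMod r) = 0 := by
    apply e.injective
    rw [map_natCast, map_zero]
    exact_mod_cast h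
  rw [ZMod.natCast_eq_zero_iff] at h2
  have := (Nat.prime_dvd_prime_iff_eq hr Nat.prime_two).1 h2
  omega

theorem card_psl_two : Nat.card (psl (F := F)) * 2 = Nat.card G2 := by
  rw [← Nat.card_congr (pslEquiv (F := F)).toEquiv, Classical.Dickson.card_pgl,
    ← Classical.Dickson.card_P2 (F := F), Classical.Dickson.two_dvd_pred (two_ne hF hr hFr)]

theorem index_psl : (psl (F := F)).index = 2 := by
  have e := (psl (F := F)).card_mul_index
  rw [← card_psl_two hF hr hFr] at e
  haveI := Classical.Dickson.finite_pgl F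
  exact Nat.eq_of_mul_eq_mul_left Nat.card_pos e

/-- The derived group of a subgroup containing the image of `SL₂`. -/
theorem commutator_eq {K : Subgroup G2} (hK : psl ≤ K) : ⁅K, K⁆ = psl := by
  refine le_antisymm (Subgroup.commutator_le.2 fun x _ y _ => ?_)
    ((perfect hF).trans (Subgroup.commutator_mono hK hK))
  have h2 := index_psl hF hr hFr
  rw [commutatorElement_def]
  simp only [Subgroup.mul_mem_iff_of_index_two h2, inv_mem_iff]
  tauto

theorem card_mulAut_le : Nat.card (MulAut (psl (F := F))) ≤ Nat.card G2 := by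
  haveI := Fact.mk hr
  haveI := Classical.Dickson.finite_pgl F
  have hσ : ∀ σ : F ≃+* F, σ = 1 := by
    intro σ
    let e := ZMod.ringEquivOfPrime F hr hFr
    have key : σ.toRingHom.comp e.toRingHom = e.toRingHom := Subsingleton.elim _ _
    refine RingEquiv.ext fun x => ?_
    obtain ⟨y, rfl⟩ := e.surjective x
    exact RingHom.congr_fun key y
  have hsurj : Function.Surjective (PSL2.conjP (F := F)) := by
    intro α
    obtain ⟨g, σ, rfl⟩ := PSL2.aut_eq (p := r) (f := 1) (by rw [pow_one, hFr]) α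
    exact ⟨g, by rw [hσ σ, map_one, mul_one]⟩
  let e : MulAut P2 ≃ MulAut (psl (F := F)) :=
    (MulAut.congr (pslEquiv (F := F))).toEquiv
  rw [← Nat.card_congr e]
  have hfac : ∀ g g' : GL (Fin 2) F, Matrix.ProjGenLinGroup.mk g = Matrix.ProjGenLinGroup.mk g' →
      PSL2.conjP g = PSL2.conjP g' := by
    intro g g' h
    refine MulEquiv.ext fun y => ?_
    obtain ⟨A, rfl⟩ := PSL2.pr_surjective y
    rw [PSL2.conjP_apply, PSL2.conjP_apply]
    apply Matrix.ProjectiveSpecialLinearGroup.toPGL_injective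
    show Matrix.ProjGenLinGroup.mk (Matrix.SpecialLinearGroup.toGL (PSL2.conjSL g A)) =
      Matrix.ProjGenLinGroup.mk (Matrix.SpecialLinearGroup.toGL (PSL2.conjSL g' A))
    rw [mk_conj, mk_conj, h]
  refine Nat.card_le_card_of_surjective
    (fun x : G2 => PSL2.conjP (Function.surjInv Matrix.ProjGenLinGroup.mk_surjective x)) fun α => ?_
  obtain ⟨g, rfl⟩ := hsurj α
  exact ⟨Matrix.ProjGenLinGroup.mk g, hfac _ _ (Function.surjInv_eq _ _)⟩

/-- A Sylow 2-subgroup embeds in a dihedral group of order `2m` with `4 ∣ m`. -/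
theorem sylow_dihedral (S : Sylow 2 G2) : ∃ m : ℕ, 4 ∣ m ∧ Nat.card S = 2 * 2 ^ m.factorization 2 ∧
    ∃ j : S →* DihedralGroup m, Function.Injective j := by
  haveI := Classical.Dickson.finite_pgl F
  haveI : Fact (Nat.Prime 2) := ⟨Nat.prime_two⟩
  have h2 := two_ne hF hr hFr
  have ht : (0 : F) * 0 ≠ 4 := fun h => mul_ne_zero h2 h2 (by linear_combination -h)
  have htr : (PSL2.wS (F := F)).1.trace = 0 := by simp [PSL2.wS, Matrix.trace_fin_two]
  obtain ⟨hcard, ⟨e⟩⟩ := Classical.Dickson.pgl_dihedral h2 (g := PSL2.wS (F := F)) (by rw [htr]; exact ht)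
  rw [htr] at hcard e
  set m := sol (0 : F) 1
  set D := (Classical.Dickson.torN (PSL2.wS (F := F))).map Matrix.ProjGenLinGroup.mk
  have hsum := sol_add_roots (t := (0 : F)) (d := 1) (by rw [mul_one]; exact ht)
  have hodd : r % 2 = 1 := by
    rcases hr.eq_two_or_odd with h | h <;> omega
  have hsq : IsSquare (-1 : F) ↔ Fintype.card F % 4 ≠ 3 := FiniteField.isSquare_neg_one_iff
  have hm : m = r - 1 ∧ r % 4 = 1 ∨ m = r + 1 ∧ r % 4 = 3 := by
    rcases roots_cases (t := (0 : F)) (d := 1) (by rw [mul_one]; exact ht) with h0 | h0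
    · refine Or.inr ⟨by omega, ?_⟩
      by_contra h3
      obtain ⟨k, hk⟩ := hsq.2 (by omega)
      rw [roots, Nat.card_eq_zero] at h0
      rcases h0 with h0 | h0
      · exact h0.elim ⟨k, by linear_combination -hk⟩
      · exact not_finite {k : F // k * k + 0 * k + 1 = 0}
    · refine Or.inl ⟨by omega, ?_⟩
      have hpos : 0 < roots (0 : F) 1 := by omega
      rw [roots, Nat.card_pos_iff] at hpos
      obtain ⟨⟨k, hk⟩⟩ := hpos.1
      have := hsq.1 ⟨k, by linear_combination -hk⟩
      omega
  have hm4 : 4 ∣ m := by omega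
  refine ⟨m, hm4, ?_, ?_⟩
  · rw [S.card_eq_multiplicity, Classical.Dickson.card_pgl, hFr]
    obtain ⟨t, ht', hN⟩ : ∃ t, Odd t ∧ r * (r ^ 2 - 1) = 2 * m * t := by
      rcases hm with ⟨hm1, h4⟩ | ⟨hm1, h4⟩
      · refine ⟨r * ((r + 1) / 2), (Nat.odd_iff.2 hodd).mul (Nat.odd_iff.2 (by omega)), ?_⟩
        have e1 : r ^ 2 - 1 = (r + 1) * (r - 1) := by rw [← Nat.sq_sub_sq, one_pow]
        have e2 : 2 * ((r + 1) / 2) = r + 1 := by omega
        rw [e1, hm1]
        calc r * ((r + 1) * (r - 1)) = r * (2 * ((r + 1) / 2) * (r - 1)) := by rw [e2]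
          _ = _ := by ring
      · refine ⟨r * ((r - 1) / 2), (Nat.odd_iff.2 hodd).mul (Nat.odd_iff.2 (by omega)), ?_⟩
        have e1 : r ^ 2 - 1 = (r + 1) * (r - 1) := by rw [← Nat.sq_sub_sq, one_pow]
        have e2 : 2 * ((r - 1) / 2) = r - 1 := by omega
        rw [e1, hm1]
        calc r * ((r + 1) * (r - 1)) = r * ((r + 1) * (2 * ((r - 1) / 2))) := by rw [e2]
          _ = _ := by ring
    rw [hN, Nat.factorization_mul (by omega) ht'.pos.ne', Nat.factorization_mul (by norm_num) (by omega),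
      Finsupp.add_apply, Finsupp.add_apply, Nat.prime_two.factorization_self,
      Nat.factorization_eq_zero_of_not_dvd ht'.not_two_dvd_nat, add_zero, pow_add, pow_one]
  · obtain ⟨P⟩ : Nonempty (Sylow 2 D) := inferInstance
    obtain ⟨S1, hS1⟩ := (P.isPGroup'.map D.subtype).exists_le_sylow
    have hfac : (Nat.card D).factorization 2 = (Nat.card G2).factorization 2 := by
      obtain ⟨t, ht', hN⟩ : ∃ t, Odd t ∧ Nat.card G2 = 2 * m * t := by
        rw [Classical.Dickson.card_pgl, hFr]
        rcases hm with ⟨hm1, h4⟩ | ⟨hm1, h4⟩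
        · refine ⟨r * ((r + 1) / 2), (Nat.odd_iff.2 hodd).mul (Nat.odd_iff.2 (by omega)), ?_⟩
          have e1 : r ^ 2 - 1 = (r + 1) * (r - 1) := by rw [← Nat.sq_sub_sq, one_pow]
          have e2 : 2 * ((r + 1) / 2) = r + 1 := by omega
          rw [e1, hm1]
          calc r * ((r + 1) * (r - 1)) = r * (2 * ((r + 1) / 2) * (r - 1)) := by rw [e2]
            _ = _ := by ring
        · refine ⟨r * ((r - 1) / 2), (Nat.odd_iff.2 hodd).mul (Nat.odd_iff.2 (by omega)), ?_⟩
          have e1 : r ^ 2 - 1 = (r + 1) * (r - 1) := by rw [← Nat.sq_sub_sq, one_pow]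
          have e2 : 2 * ((r - 1) / 2) = r - 1 := by omega
          rw [e1, hm1]
          calc r * ((r + 1) * (r - 1)) = r * ((r + 1) * (2 * ((r - 1) / 2))) := by rw [e2]
            _ = _ := by ring
      rw [hcard, hN, Nat.factorization_mul (a := 2 * m) (by omega) ht'.pos.ne', Finsupp.add_apply,
        Nat.factorization_eq_zero_of_not_dvd ht'.not_two_dvd_nat, add_zero]
    have hP : (P : Subgroup D).map D.subtype = (S1 : Subgroup G2) :=
      Subgroup.eq_of_le_of_card_ge hS1 (by
        rw [Subgroup.card_map_of_injective D.subtype_injective, P.card_eq_multiplicity,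
          S1.card_eq_multiplicity, hfac])
    have hS1D : (S1 : Subgroup G2) ≤ D := hP ▸ Subgroup.map_subtype_le _
    let a : S ≃* S1 := Sylow.equiv S S1
    refine ⟨(e.toMonoidHom.comp (Subgroup.inclusion hS1D)).comp a.toMonoidHom, ?_⟩
    exact (e.injective.comp (Subgroup.inclusion_injective hS1D)).comp a.injective

end Cfsg.Agent.Perm.CyclicTimesZ.Model
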