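import Cfsg.Agent.Lib.Perm.CyclicTimesZ.Basic

/-!
# A primitive group with a regular cyclic subgroup of even order is doubly transitive
-/

set_option autoImplicit false
set_option linter.unusedSectionVars false

namespace Cfsg.Agent.Perm.CyclicTimesZ

open MulAction Subgroup

universe u v

/-- The subgroup of elements moving `a` to a point related to `a`, for an invariant relation. -/
def relSubgroup {G : Type u} {Ω : Type v} [Group G] [MulAction G Ω] [Finite G] (P : Ω → Ω → Prop)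
    (hP : ∀ (g : G) (x y : Ω), P x y → P (g • x) (g • y)) (hr : ∀ x, P x x)
    (ht : ∀ x y w, P x y → P y w → P x w) (a : Ω) : Subgroup G :=
  let S : Submonoid G :=
    { carrier := {g | P a (g • a)}
      one_mem' := show P a ((1 : G) • a) by rw [one_smul]; exact hr a
      mul_mem' := fun {g g'} hg hg' => show P a ((g * g') • a) by
        rw [mul_smul]; exact ht _ _ _ hg (hP g _ _ hg') }
  { S with
    inv_mem' := by
      intro g hg
      change g⁻¹ ∈ S
      obtain ⟨k, hk⟩ : ∃ k : ℕ, g ^ k = g⁻¹ := ⟨orderOf g - 1, eq_inv_of_mul_eq_one_left (by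
        rw [← pow_succ, Nat.sub_add_cancel (orderOf_pos g), pow_orderOf_eq_one])⟩
      exact hk ▸ S.pow_mem hg k }

/-- A primitive group with a regular cyclic subgroup of even order is doubly transitive. -/
theorem tt_of_primitive {G : Type u} {Ω : Type v} [Group G] [MulAction G Ω] [Finite G] [Finite Ω]
    [FaithfulSMul G Ω] (hmax : ∀ (a : Ω) (X : Subgroup G), stabilizer G a ≤ X → X ≠ stabilizer G a → X = ⊤)
    (A : Subgroup G) (hA : IsCyclic A) (hAt : ∀ a c : Ω, ∃ g ∈ A, g • a = c)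
    (heven : Even (Nat.card Ω)) : TT G Ω := by
  classical
  suffices key : ∀ a b c : Ω, b ≠ a → c ≠ a → ∃ g ∈ stabilizer G a, g • b = c by
    intro a b c d hab hcd
    obtain ⟨g, -, hg⟩ := hAt a c
    have : g • b ≠ c := fun e => hab (MulAction.injective g (hg.trans e.symm))
    obtain ⟨k, hk, hkb⟩ := key c (g • b) d this hcd.symm
    exact ⟨k * g, by rw [mul_smul, hg, mem_stabilizer_iff.1 hk], by rw [mul_smul, hkb]⟩
  intro a b₀ c₀ hb₀ hc₀
  by_contra hno
  haveI : Fact (Nat.Prime 2) := ⟨Nat.prime_two⟩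
  have hcardA := card_regular A hA hAt a
  obtain ⟨z, hz⟩ := exists_prime_orderOf_dvd_card' (G := A) 2
    (by rw [hcardA]; exact even_iff_two_dvd.1 heven)
  rw [← Subgroup.orderOf_coe] at hz
  have hzA : (z : G) ∈ A := z.2
  generalize hzdef : (z : G) = z' at hz hzA
  clear hzdef z
  rename' z' => z
  have hzz : z * z = 1 := by
    have := pow_orderOf_eq_one z
    rwa [hz, pow_two] at this
  have hz1 : z ≠ 1 := fun e => by rw [e, orderOf_one] at hz; omega
  have hzfpf : ∀ x : Ω, z • x ≠ x := fun x e => hz1 (semiregular A hA hAt hzA e)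
  -- a suborbit avoiding z • a
  obtain ⟨c, hca, hcz⟩ : ∃ c : Ω, c ≠ a ∧ ¬ ∃ m ∈ stabilizer G a, m • c = z • a := by
    by_contra hall
    push Not at hall
    obtain ⟨m, hm, hmb⟩ := hall b₀ hb₀
    obtain ⟨m', hm', hmc⟩ := hall c₀ hc₀
    exact hno ⟨m'⁻¹ * m, mul_mem (inv_mem hm') hm, by rw [mul_smul, hmb, inv_smul_eq_iff, hmc]⟩
  let R : Ω → Ω → Prop := fun x y => ∃ g : G, g • a = x ∧ g • c = y
  have hRinv : ∀ (g : G) (x y : Ω), R x y → R (g • x) (g • y) := by
    rintro g x y ⟨k, rfl, rfl⟩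
    exact ⟨g * k, mul_smul _ _ _, mul_smul _ _ _⟩
  have hRinv' : ∀ (g : G) (x y : Ω), R (g • x) (g • y) ↔ R x y := fun g x y =>
    ⟨fun h => by simpa using hRinv g⁻¹ _ _ h, hRinv g x y⟩
  have hRirr : ∀ x, ¬ R x x := by
    rintro x ⟨g, h1, h2⟩
    exact hca (MulAction.injective g (h2.trans h1.symm))
  have hRz : ¬ R a (z • a) := fun ⟨g, h1, h2⟩ => hcz ⟨g, h1, h2⟩
  have hRA : ∀ {β : G}, β ∈ A → ∀ γ : G, R (β • a) (γ • a) ↔ R a ((β⁻¹ * γ) • a) := fun {β} _ γ => by
    rw [← hRinv' β⁻¹ (β • a), inv_smul_smul, ← mul_smul]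
  let S : Ω → Set Ω := fun y => {x | R a x ∧ R x y}
  -- the map α ↦ α⁻¹ γ
  have hflip : ∀ γ ∈ A, ∀ x ∈ S (γ • a), ∃ α ∈ A, α • a = x ∧ (α⁻¹ * γ) • a ∈ S (γ • a) := by
    intro γ hγ x hx
    obtain ⟨α, hα, rfl⟩ := hAt a x
    refine ⟨α, hα, rfl, (hRA hα γ).1 hx.2, (hRA (mul_mem (inv_mem hα) hγ) γ).2 ?_⟩
    have : (α⁻¹ * γ)⁻¹ * γ = α := by
      rw [mul_inv_rev, inv_inv, mul_assoc, comm_of_cyclic hA hα hγ, inv_mul_cancel_left]
    rw [this]
    exact hx.1
  have hperm : ∀ γ ∈ A, ∃ σ : Equiv.Perm (S (γ • a)), σ ^ 2 ^ 1 = 1 ∧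
      ∀ (x : S (γ • a)) (α : G), α ∈ A → α • a = x → (σ x : Ω) = (α⁻¹ * γ) • a := by
    intro γ hγ
    choose α hα hαx hαS using hflip γ hγ
    have huniq : ∀ (x : S (γ • a)) (β : G), β ∈ A → β • a = x → β = α x x.2 := by
      intro x β hβ hβx
      have : β⁻¹ * α x x.2 = 1 := semiregular A hA hAt (mul_mem (inv_mem hβ) (hα x x.2))
        (show (β⁻¹ * α x x.2) • a = a by rw [mul_smul, hαx x x.2, ← hβx, inv_smul_smul])
      exact inv_mul_eq_one.1 this
    let f : S (γ • a) → S (γ • a) := fun x => ⟨_, hαS x x.2⟩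
    have hf : Function.Involutive f := by
      intro x
      refine Subtype.ext ?_
      show ((α (f x) (f x).2)⁻¹ * γ) • a = x
      rw [← huniq (f x) ((α x x.2)⁻¹ * γ) (mul_mem (inv_mem (hα x x.2)) hγ) rfl]
      rw [mul_inv_rev, inv_inv, mul_assoc, comm_of_cyclic hA (hα x x.2) hγ, inv_mul_cancel_left]
      exact hαx x x.2
    refine ⟨hf.toPerm f, Equiv.ext fun x => ?_, fun x β hβ hβx => ?_⟩
    · rw [pow_one, pow_two]
      exact hf x
    · show ((α x x.2)⁻¹ * γ) • a = _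
      rw [huniq x β hβ hβx]
  have hfix : ∀ γ ∈ A, ∀ σ : Equiv.Perm (S (γ • a)),
      (∀ (x : S (γ • a)) (α : G), α ∈ A → α • a = x → (σ x : Ω) = (α⁻¹ * γ) • a) →
      ∀ (x : S (γ • a)) (α : G), α ∈ A → α • a = x → (σ x = x ↔ α * α = γ) := by
    intro γ hγ σ hσ x α hα hαx
    constructor
    · intro e
      have h1 : (α⁻¹ * γ) • a = α • a := by rw [← hσ x α hα hαx, e, hαx]
      have h2 : α⁻¹ * (α⁻¹ * γ) = 1 := semiregular A hA hAt
        (mul_mem (inv_mem hα) (mul_mem (inv_mem hα) hγ))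
        (show (α⁻¹ * (α⁻¹ * γ)) • a = a by rw [mul_smul, h1, inv_smul_smul])
      rw [← mul_assoc, ← mul_inv_rev] at h2
      exact inv_mul_eq_one.1 h2
    · intro e
      refine Subtype.ext ?_
      have e' : α⁻¹ * γ = α := by rw [← e, inv_mul_cancel_left]
      rw [hσ x α hα hαx, e', hαx]
  -- an odd number of two-step paths happens only at a
  have hodd : ∀ y : Ω, Odd (Nat.card (S y)) → y = a := by
    intro y hy
    by_contra hya
    let P : Ω → Ω → Prop := fun x w => ∃ g : G, g • a = x ∧ g • y = w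
    have hsq : ∀ w : Ω, P a w → ∃ α ∈ A, (α * α) • a = w := by
      rintro w ⟨g, hga, rfl⟩
      obtain ⟨γ, hγ, hγy⟩ := hAt a (g • y)
      have hS : Nat.card (S (γ • a)) = Nat.card (S y) := by
        rw [hγy]
        refine Nat.card_congr (Equiv.subtypeEquiv (MulAction.toPerm g⁻¹) fun x => ?_)
        show R a x ∧ R x (g • y) ↔ R a (g⁻¹ • x) ∧ R (g⁻¹ • x) y
        conv_rhs => rw [← hRinv' g a, ← hRinv' g (g⁻¹ • x) y, smul_inv_smul, hga]
      obtain ⟨σ, hσ2, hσ⟩ := hperm γ hγ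
      haveI := Fintype.ofFinite (S (γ • a))
      obtain ⟨x, hx⟩ := Equiv.Perm.exists_fixed_point_of_prime (p := 2) (by
        rw [← Nat.card_eq_fintype_card, hS]
        rw [Nat.odd_iff] at hy
        omega) hσ2
      obtain ⟨α, hα, hαx⟩ := hAt a x
      exact ⟨α, hα, by rw [(hfix γ hγ σ hσ x α hα hαx).1 hx, hγy]⟩
    let Q := Relation.ReflTransGen P
    have hPinv : ∀ (g : G) (x w : Ω), P x w → P (g • x) (g • w) := by
      rintro g x w ⟨k, rfl, rfl⟩
      exact ⟨g * k, mul_smul _ _ _, mul_smul _ _ _⟩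
    let W := relSubgroup (G := G) Q (fun g x w h => h.lift (g • ·) fun p q => hPinv g p q)
      (fun x => Relation.ReflTransGen.refl) (fun x w v h h' => h.trans h') a
    have hW : W = ⊤ := by
      obtain ⟨g, hg, hga⟩ := hAt a y
      refine hmax a W (fun m hm => ?_) fun e => ?_
      · show Q a (m • a)
        rw [mem_stabilizer_iff.1 hm]
      · have hgW : g ∈ W := by
          show Q a (g • a)
          rw [hga]
          exact Relation.ReflTransGen.single ⟨1, one_smul _ _, one_smul _ _⟩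
        rw [e] at hgW
        exact hya (hga.symm.trans hgW)
    obtain ⟨⟨g, hg⟩, hgen⟩ := hA.exists_generator
    have hsqpath : ∀ w, Q a w → ∃ α ∈ A, (α * α) • a = w := by
      intro w hw
      induction hw with
      | refl => exact ⟨1, one_mem _, by rw [one_mul, one_smul]⟩
      | @tail p q _ hpq ih =>
        obtain ⟨α, hα, rfl⟩ := ih
        have h1 := hPinv (α * α)⁻¹ _ _ hpq
        rw [inv_smul_smul] at h1
        obtain ⟨β, hβ, hβq⟩ := hsq _ h1
        rw [eq_inv_smul_iff, ← mul_smul] at hβq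
        refine ⟨α * β, mul_mem hα hβ, ?_⟩
        rw [show α * β * (α * β) = α * α * (β * β) by
          rw [mul_assoc, ← mul_assoc β, comm_of_cyclic hA hβ hα, mul_assoc, ← mul_assoc α]]
        exact hβq
    obtain ⟨α, hα, hαg⟩ := hsqpath (g • a) (show g ∈ W from hW ▸ Subgroup.mem_top g)
    have h2 : (α * α)⁻¹ * g = 1 := semiregular A hA hAt (mul_mem (inv_mem (mul_mem hα hα)) hg)
      (show ((α * α)⁻¹ * g) • a = a by rw [mul_smul, ← hαg, inv_smul_smul])
    obtain ⟨j, hj⟩ := mem_zpowers_iff.1 (hgen ⟨α, hα⟩)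
    have h3 : (⟨g, hg⟩ : A) ^ (2 * j - 1) = 1 := by
      have e2 : (⟨g, hg⟩ : A) ^ (2 * j) = ⟨g, hg⟩ := by
        rw [two_mul, zpow_add, hj]
        exact Subtype.ext (inv_mul_eq_one.1 h2)
      rw [zpow_sub, zpow_one, e2, mul_inv_cancel]
    have hdvd : (Nat.card Ω : ℤ) ∣ 2 * j - 1 := by
      rw [← hcardA, ← orderOf_eq_card_of_forall_mem_zpowers hgen]
      exact orderOf_dvd_iff_zpow_eq_one.2 h3
    obtain ⟨m, hm⟩ := heven
    have : (2 : ℤ) ∣ 2 * j - 1 := (show (2 : ℤ) ∣ (Nat.card Ω : ℤ) by omega).trans hdvd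
    omega
  -- hence z preserves the out-neighbourhood of a
  have hzT : ∀ x, R a x → R a (z • x) := by
    intro x hx
    by_contra hzx
    obtain ⟨α, hα, rfl⟩ := hAt a x
    have hγ : α * α ∈ A := mul_mem hα hα
    obtain ⟨σ, hσ2, hσ⟩ := hperm _ hγ
    have hxS : α • a ∈ S ((α * α) • a) := ⟨hx, (hRA hα _).2 (by rw [inv_mul_cancel_left]; exact hx)⟩
    haveI := Fintype.ofFinite (S ((α * α) • a))
    have hfixx : σ ⟨_, hxS⟩ = ⟨_, hxS⟩ := (hfix _ hγ σ hσ ⟨_, hxS⟩ α hα rfl).2 rfl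
    have hne : α * α ≠ 1 := by
      intro e
      have hαne : α ≠ 1 := fun e1 => hRirr a (by rwa [e1, one_smul] at hx)
      have hαz : α = z := cyclic_inv_unique hA hα hzA (orderOf_eq_prime (by rw [pow_two, e]) hαne) hz
      exact hRz (hαz ▸ hx)
    have hoddS : Odd (Nat.card (S ((α * α) • a))) := by
      rw [← Nat.not_even_iff_odd]
      intro hev
      obtain ⟨⟨x', hx'⟩, hx'fix, hx'ne⟩ := Equiv.Perm.exists_fixed_point_of_prime' (p := 2)
        (by rw [← Nat.card_eq_fintype_card]; exact even_iff_two_dvd.1 hev) hσ2 hfixx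
      obtain ⟨β, hβ, rfl⟩ := hAt a x'
      have hββ : β * β = α * α := (hfix _ hγ σ hσ ⟨_, hx'⟩ β hβ rfl).1 hx'fix
      have hne' : α⁻¹ * β ≠ 1 := fun e => hx'ne (Subtype.ext (congrArg (· • a) (inv_mul_eq_one.1 e).symm))
      have hβz : α⁻¹ * β = z := cyclic_inv_unique hA (mul_mem (inv_mem hα) hβ) hzA
        (orderOf_eq_prime (by
          rw [pow_two, mul_assoc, ← mul_assoc β, comm_of_cyclic hA hβ (inv_mem hα), mul_assoc α⁻¹ β β, hββ,
            inv_mul_cancel_left, inv_mul_cancel]) hne') hz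
      refine hzx ?_
      rw [← mul_smul, comm_of_cyclic hA hzA hα, ← hβz, mul_inv_cancel_left]
      exact hx'.1
    exact hne (semiregular A hA hAt hγ (hodd _ hoddS))
  -- so points differing by z have the same out-neighbourhood
  let E : Ω → Ω → Prop := fun x x' => ∀ y, R x y ↔ R x' y
  let W := relSubgroup (G := G) E (fun g x x' h y => by
      rw [← smul_inv_smul g y, hRinv', hRinv']; exact h _)
    (fun x y => Iff.rfl) (fun x w v h h' y => (h y).trans (h' y)) a
  have hzW : z ∈ W := by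
    show E a (z • a)
    intro y
    have e : R (z • a) y ↔ R a (z • y) := by
      conv_lhs => rw [← hRinv' z]
      rw [← mul_smul, hzz, one_smul]
    rw [e]
    refine ⟨hzT y, fun h => ?_⟩
    have := hzT _ h
    rwa [← mul_smul, hzz, one_smul] at this
  have hWtop : W = ⊤ := by
    refine hmax a W (fun m hm => ?_) fun e => ?_
    · show E a (m • a)
      rw [mem_stabilizer_iff.1 hm]
      exact fun y => Iff.rfl
    · rw [e] at hzW
      exact hzfpf a hzW
  obtain ⟨g, hg, hgc⟩ := hAt a c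
  have hE : E a (g • a) := show g ∈ W from hWtop ▸ Subgroup.mem_top g
  rw [hgc] at hE
  exact hRirr c ((hE c).1 ⟨1, one_smul _ _, one_smul _ _⟩)

end Cfsg.Agent.Perm.CyclicTimesZ
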