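import Cfsg.Agent.Lib.Perm.CyclicTimesZ.Basic
import Cfsg.Agent.Lib.Perm.CyclicTimesZ.Model

/-!
# Two-subgroups of groups that are products of two subgroups with cyclic Sylow 2-subgroups
-/

set_option autoImplicit false

namespace Cfsg.Agent.Perm.CyclicTimesZ

open Subgroup

universe u

variable {G : Type u} [Group G] [Finite G]

theorem card_mul_le_set (H K : Subgroup G) (T : Set G) (hT : ∀ h ∈ H, ∀ k ∈ K, h * k ∈ T) :
    Nat.card H * Nat.card K ≤
      Nat.card (Set.range fun p : H × K => (p.1 : G) * p.2) * Nat.card (H ⊓ K : Subgroup G) ∧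
    Set.range (fun p : H × K => (p.1 : G) * p.2) ⊆ T := by
  refine ⟨?_, by rintro _ ⟨⟨⟨h, hh⟩, ⟨k, hk⟩⟩, rfl⟩; exact hT h hh k hk⟩
  rw [← Nat.card_prod, ← Nat.card_prod]
  let f : H × K → Set.range (fun p : H × K => (p.1 : G) * p.2) := fun p => ⟨_, p, rfl⟩
  have hf : Function.Surjective f := by
    rintro ⟨_, p, rfl⟩
    exact ⟨p, rfl⟩
  let σ := Function.surjInv hf
  refine Nat.card_le_card_of_injective (fun p => (f p, (⟨((σ (f p)).1 : G)⁻¹ * p.1, ?_⟩ : (H ⊓ K : Subgroup G))))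
    ?_
  · refine ⟨H.mul_mem (H.inv_mem (σ (f p)).1.2) p.1.2, ?_⟩
    have e : ((σ (f p)).1 : G) * (σ (f p)).2 = (p.1 : G) * p.2 :=
      congrArg Subtype.val (Function.surjInv_eq hf (f p))
    have e' : ((σ (f p)).1 : G)⁻¹ * p.1 = (σ (f p)).2 * (p.2 : G)⁻¹ := by
      rw [eq_mul_inv_iff_mul_eq, mul_assoc, ← e, inv_mul_cancel_left]
    show ((σ (f p)).1 : G)⁻¹ * p.1 ∈ K
    rw [e']
    exact K.mul_mem (σ (f p)).2.2 (K.inv_mem p.2.2)
  · intro p q e
    have e1 : f p = f q := congrArg Prod.fst e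
    have e2 : ((σ (f p)).1 : G)⁻¹ * p.1 = ((σ (f q)).1 : G)⁻¹ * q.1 :=
      congrArg (fun r : _ × (H ⊓ K : Subgroup G) => (r.2 : G)) e
    rw [e1] at e2
    have h1 : (p.1 : G) = q.1 := mul_left_cancel e2
    have h2 : (p.1 : G) * p.2 = q.1 * q.2 := congrArg Subtype.val e1
    rw [h1] at h2
    exact Prod.ext (Subtype.ext h1) (Subtype.ext (mul_left_cancel h2))

/-- A Sylow 2-subgroup of a product is a product of cyclic 2-subgroups. -/
theorem sylow_product (A B : Subgroup G) (hA : IsCyclic A) (hB : IsZGroup B)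
    (hAB : ∀ g : G, ∃ a ∈ A, ∃ b ∈ B, g = a * b) :
    ∃ (S : Sylow 2 G) (x y : G), x ∈ (S : Subgroup G) ∧ y ∈ (S : Subgroup G) ∧
      ∀ s ∈ (S : Subgroup G), ∃ i j : ℕ, s = x ^ i * y ^ j := by
  classical
  haveI : Fact (Nat.Prime 2) := ⟨Nat.prime_two⟩
  haveI := hA
  haveI := hB
  obtain ⟨P⟩ : Nonempty (Sylow 2 A) := inferInstance
  obtain ⟨Q⟩ : Nonempty (Sylow 2 B) := inferInstance
  obtain ⟨S0, hS0⟩ := (P.isPGroup'.map A.subtype).exists_le_sylow
  obtain ⟨S1, hS1⟩ := (Q.isPGroup'.map B.subtype).exists_le_sylow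
  obtain ⟨g, hg⟩ := MulAction.exists_smul_eq G S0 S1
  obtain ⟨a, ha, b, hb, hgab⟩ := hAB g⁻¹
  have hg' : g = b⁻¹ * a⁻¹ := by rw [← inv_inv g, hgab, mul_inv_rev]
  set S := a⁻¹ • S0 with hS
  obtain ⟨⟨x, hxA⟩, hx⟩ := (inferInstance : IsCyclic (P : Subgroup A)).exists_generator
  haveI : IsCyclic (Q : Subgroup B) := IsZGroup.isZGroup 2 Nat.prime_two Q
  obtain ⟨⟨y, hyB⟩, hy⟩ := (inferInstance : IsCyclic (Q : Subgroup B)).exists_generator
  have hxS : (x : G) ∈ (S : Subgroup G) := by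
    have h1 : (x : G) ∈ (S0 : Subgroup G) := hS0 ⟨x, hxA, rfl⟩
    have h2 : a⁻¹ * (x : G) * a⁻¹⁻¹ = x := by
      rw [comm_of_cyclic hA (inv_mem ha) x.2, mul_inv_cancel_right]
    rw [hS, Sylow.coe_subgroup_smul, ← h2]
    exact Subgroup.smul_mem_pointwise_smul _ (MulAut.conj a⁻¹) _ h1
  set y' := b * (y : G) * b⁻¹
  have hy'S : y' ∈ (S : Subgroup G) := by
    have h1 : (y : G) ∈ (S1 : Subgroup G) := hS1 ⟨y, hyB, rfl⟩
    rw [← hg, Sylow.coe_subgroup_smul, Subgroup.mem_pointwise_smul_iff_inv_smul_mem] at h1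
    have h2 : a⁻¹ * (a * b * (y : G) * (a * b)⁻¹) * a⁻¹⁻¹ = y' := by simp only [y']; group
    rw [hS, Sylow.coe_subgroup_smul, ← h2]
    refine Subgroup.smul_mem_pointwise_smul _ (MulAut.conj a⁻¹) _ ?_
    convert h1 using 1
    simp [hg', MulAut.smul_def, MulAut.conj_inv_apply, mul_assoc]
  refine ⟨S, x, y', hxS, hy'S, ?_⟩
  set H := zpowers (x : G)
  set K := zpowers y'
  obtain ⟨hcard, hsub⟩ := card_mul_le_set H K (S : Subgroup G) (fun h hh k hk =>
    mul_mem (zpowers_le.2 hxS hh) (zpowers_le.2 hy'S hk))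
  have hHK : Nat.card (H ⊓ K : Subgroup G) ∣ 2 ^ (Nat.card (A ⊓ B : Subgroup G)).factorization 2 := by
    have hle : H ⊓ K ≤ A ⊓ B :=
      inf_le_inf (zpowers_le.2 x.2) (zpowers_le.2 (mul_mem (mul_mem hb y.2) (inv_mem hb)))
    have hp : IsPGroup 2 (H ⊓ K : Subgroup G) :=
      S.isPGroup'.to_le (inf_le_left.trans (zpowers_le.2 hxS))
    obtain ⟨k, hk⟩ := IsPGroup.iff_card.1 hp
    rw [hk]
    exact pow_dvd_pow 2 ((Nat.prime_two.pow_dvd_iff_le_factorization Nat.card_pos.ne').1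
      (hk ▸ Subgroup.card_dvd_of_le hle))
  have hox : Nat.card H = 2 ^ (Nat.card A).factorization 2 := by
    rw [← P.card_eq_multiplicity, Nat.card_zpowers,
      ← orderOf_eq_card_of_forall_mem_zpowers hx, Subgroup.orderOf_mk, Subgroup.orderOf_coe]
  have hoy : Nat.card K = 2 ^ (Nat.card B).factorization 2 := by
    rw [← Q.card_eq_multiplicity, Nat.card_zpowers, show y' = MulAut.conj b (y : G) from rfl,
      MulEquiv.orderOf_eq,
      ← orderOf_eq_card_of_forall_mem_zpowers hy, Subgroup.orderOf_mk, Subgroup.orderOf_coe]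
  have hG : Nat.card A * Nat.card B = Nat.card G * Nat.card (A ⊓ B : Subgroup G) := by
    refine le_antisymm ?_ ?_
    · obtain ⟨h1, -⟩ := card_mul_le_set A B Set.univ fun _ _ _ _ => trivial
      refine h1.trans (Nat.mul_le_mul_right _ ?_)
      exact Nat.card_le_card_of_injective _ Subtype.val_injective
    · rw [← Nat.card_prod, ← Nat.card_prod]
      choose fa hfa fb hfb hfab using hAB
      refine Nat.card_le_card_of_injective (fun p : G × (A ⊓ B : Subgroup G) =>
        ((⟨fa p.1 * p.2, mul_mem (hfa p.1) p.2.2.1⟩ : A), (⟨(p.2 : G)⁻¹ * fb p.1, mul_mem (inv_mem p.2.2.2) (hfb p.1)⟩ : B))) ?_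
      intro p q e
      simp only [Prod.mk.injEq, Subtype.mk.injEq] at e
      have hpq : p.1 = q.1 := by
        rw [hfab p.1, hfab q.1]
        calc fa p.1 * fb p.1 = fa p.1 * p.2 * ((p.2 : G)⁻¹ * fb p.1) := by group
          _ = fa q.1 * q.2 * ((q.2 : G)⁻¹ * fb q.1) := by rw [e.1, e.2]
          _ = _ := by group
      refine Prod.ext hpq (Subtype.ext ?_)
      have h1 := e.1
      rw [hpq] at h1
      exact mul_left_cancel h1
  have hfac : (Nat.card A).factorization 2 + (Nat.card B).factorization 2 =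
      (Nat.card G).factorization 2 + (Nat.card (A ⊓ B : Subgroup G)).factorization 2 := by
    have := congrArg (fun n => n.factorization 2) hG
    rw [Nat.factorization_mul Nat.card_pos.ne' Nat.card_pos.ne',
      Nat.factorization_mul Nat.card_pos.ne' Nat.card_pos.ne', Finsupp.add_apply, Finsupp.add_apply] at this
    exact this
  have hge : Nat.card (S : Subgroup G) ≤ Nat.card (Set.range fun p : H × K => (p.1 : G) * p.2) := by
    rw [hox, hoy, ← pow_add, hfac, pow_add] at hcard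
    rw [show Nat.card (S : Subgroup G) = 2 ^ (Nat.card G).factorization 2 from S.card_eq_multiplicity]
    refine Nat.le_of_mul_le_mul_right (hcard.trans (Nat.mul_le_mul_left _ ?_)) (pow_pos two_pos _)
    exact Nat.le_of_dvd (pow_pos two_pos _) hHK
  intro s hs
  have heq := Set.eq_of_subset_of_ncard_le hsub (by
    rw [← Nat.card_coe_set_eq, ← Nat.card_coe_set_eq, SetLike.coe_sort_coe]; exact hge) (Set.toFinite _)
  have hs' : s ∈ Set.range fun p : H × K => (p.1 : G) * p.2 := heq.symm ▸ hs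
  obtain ⟨⟨⟨h, hh⟩, ⟨k, hk⟩⟩, rfl⟩ := hs'
  obtain ⟨i, -, rfl⟩ := (mem_zpowers_iff_mem_range_orderOf.1 hh |> Finset.mem_image.1)
  obtain ⟨j, -, rfl⟩ := (mem_zpowers_iff_mem_range_orderOf.1 hk |> Finset.mem_image.1)
  exact ⟨i, j, rfl⟩

section dihedral

variable {F : Type} [Field F] [Fintype F]

local notation "G2" => Matrix.ProjGenLinGroup (Fin 2) F

/-- Generators of a Sylow 2-subgroup of `PGL₂` as a product of two cyclic groups. -/
theorem pgl_pair (hr : (Fintype.card F).Prime) (hF : 3 < Fintype.card F) (S : Sylow 2 G2) :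
    ∃ e : ℕ, 4 ≤ e ∧ Nat.card S = 2 * e ∧ (∀ x ∈ (S : Subgroup G2), orderOf x ≤ e) ∧
      ∀ x ∈ (S : Subgroup G2), ∀ y ∈ (S : Subgroup G2),
        (∀ s ∈ (S : Subgroup G2), ∃ i j : ℕ, s = x ^ i * y ^ j) → orderOf x ≤ 2 ∨ orderOf y ≤ 2 := by
  obtain ⟨m, hm4, hcard, j, hj⟩ := Model.sylow_dihedral hF hr rfl S
  haveI := Classical.Dickson.finite_pgl F
  haveI : Fact (Nat.Prime 2) := ⟨Nat.prime_two⟩
  have hm0 : m ≠ 0 := by
    rintro rfl
    haveI : Finite S := inferInstance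
    have h1 : Nat.card S = 2 := by rw [hcard]; simp
    have h2 := Model.sylow_dihedral hF hr rfl S
    obtain ⟨m', hm', hc', -⟩ := h2
    have h3 : m'.factorization 2 = 0 := by
      rcases Nat.eq_zero_or_pos (m'.factorization 2) with e | e
      · exact e
      · have : 2 ≤ 2 ^ m'.factorization 2 := by
          calc 2 = 2 ^ 1 := rfl
            _ ≤ _ := Nat.pow_le_pow_right two_pos e
        omega
    rcases Nat.eq_zero_or_pos m' with rfl | hpos
    · have hS : Nat.card S = 2 ^ (Nat.card G2).factorization 2 := S.card_eq_multiplicity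
      have h4 : 4 ∣ Nat.card G2 := by
        rw [Classical.Dickson.card_pgl]
        rcases hr.eq_two_or_odd with h | h
        · omega
        · refine Dvd.dvd.mul_left ?_ _
          obtain ⟨k, hk⟩ : ∃ k, Fintype.card F = 2 * k + 1 := ⟨Fintype.card F / 2, by omega⟩
          rw [hk, show (2 * k + 1) ^ 2 - 1 = 4 * (k * k + k) by
            have : (2 * k + 1) ^ 2 = 4 * (k * k + k) + 1 := by ring
            omega]
          exact dvd_mul_right _ _
      have := (Nat.prime_two.pow_dvd_iff_le_factorization Nat.card_pos.ne').1 (show 2 ^ 2 ∣ Nat.card G2 from h4)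
      have : 2 ^ 2 ≤ 2 ^ (Nat.card G2).factorization 2 := Nat.pow_le_pow_right two_pos this
      omega
    · have := (Nat.prime_two.dvd_iff_one_le_factorization (n := m') hpos.ne').1 (dvd_trans (by norm_num) hm')
      omega
  haveI : NeZero m := ⟨hm0⟩
  refine ⟨2 ^ m.factorization 2, ?_, hcard, ?_⟩
  · have := (Nat.prime_two.pow_dvd_iff_le_factorization hm0).1 (show 2 ^ 2 ∣ m from hm4)
    exact le_trans (by norm_num) (Nat.pow_le_pow_right two_pos this)
  have hrot : ∀ x : S, orderOf x ≤ 2 ∨ ∃ i : ZMod m, j x = DihedralGroup.r i := by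
    intro x
    cases hx : j x with
    | r i => exact Or.inr ⟨i, rfl⟩
    | sr i =>
      left
      have : orderOf (j x) = 2 := by rw [hx]; exact DihedralGroup.orderOf_sr i
      rw [← orderOf_injective j hj x, this]
  have hrm : ∀ x : S, ∀ i : ZMod m, j x = DihedralGroup.r i → orderOf x ∣ m := by
    intro x i hx
    rw [← orderOf_injective j hj x, hx, DihedralGroup.orderOf_r]
    exact Nat.div_dvd_of_dvd (Nat.gcd_dvd_left _ _)
  refine ⟨fun x hx => ?_, fun x hx y hy hgen => ?_⟩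
  · have hxS : orderOf (⟨x, hx⟩ : S) = orderOf x := Subgroup.orderOf_mk x hx
    rw [← hxS]
    have he2 : 2 ≤ 2 ^ m.factorization 2 := by
      calc 2 = 2 ^ 1 := rfl
        _ ≤ _ := Nat.pow_le_pow_right two_pos
          ((Nat.prime_two.dvd_iff_one_le_factorization hm0).1 (dvd_trans (by norm_num) hm4))
    rcases hrot ⟨x, hx⟩ with h | ⟨i, hi⟩
    · exact h.trans he2
    · obtain ⟨k, hk⟩ := IsPGroup.iff_orderOf.1 S.isPGroup' ⟨x, hx⟩
      rw [hk]
      exact Nat.pow_le_pow_right two_pos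
        ((Nat.prime_two.pow_dvd_iff_le_factorization hm0).1 (hk ▸ hrm _ _ hi))
  · by_contra hcon
    push Not at hcon
    rcases hrot ⟨x, hx⟩ with h | ⟨a, ha⟩
    · rw [Subgroup.orderOf_mk] at h; omega
    rcases hrot ⟨y, hy⟩ with h | ⟨b, hb⟩
    · rw [Subgroup.orderOf_mk] at h; omega
    have hall : ∀ s : S, j s ∈ zpowers (DihedralGroup.r (1 : ZMod m)) := by
      intro s
      obtain ⟨i, k, hik⟩ := hgen s s.2
      have hs : s = ⟨x, hx⟩ ^ i * ⟨y, hy⟩ ^ k := Subtype.ext hik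
      have hr1 : ∀ c : ZMod m, DihedralGroup.r c ∈ zpowers (DihedralGroup.r (1 : ZMod m)) := fun c =>
        mem_zpowers_iff.2 ⟨(c.val : ℤ), by rw [zpow_natCast, DihedralGroup.r_one_pow, ZMod.natCast_zmod_val]⟩
      rw [hs, map_mul, map_pow, map_pow, ha, hb]
      exact mul_mem (pow_mem (hr1 a) _) (pow_mem (hr1 b) _)
    have hdvd : Nat.card S ∣ m := by
      have h1 := Subgroup.card_dvd_of_le (show j.range ≤ zpowers (DihedralGroup.r (1 : ZMod m)) by
        rintro _ ⟨s, rfl⟩; exact hall s)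
      rwa [Nat.card_zpowers, DihedralGroup.orderOf_r_one, ← Nat.card_congr (MonoidHom.ofInjective hj).toEquiv] at h1
    rw [hcard, show 2 * 2 ^ m.factorization 2 = 2 ^ (m.factorization 2 + 1) by rw [pow_succ']] at hdvd
    exact Nat.pow_succ_factorization_not_dvd hm0 Nat.prime_two hdvd

end dihedral

end Cfsg.Agent.Perm.CyclicTimesZ
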