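import Cfsg.Agent.Lib.Perm.CyclicTimesZ.Core
import Cfsg.Agent.Lib.Perm.CyclicTimesZ.Prim
import Cfsg.Agent.Lib.Perm.CyclicTimesZ.Product
import Cfsg.Agent.Lib.Perm.Kazarin
import Cfsg.Agent.Lib.Solv.Triple.Five
import Cfsg.Agent.Lib.Lie.SharpBasic
import Cfsg.Agent.Lib.Lie.SharpPGL
import Cfsg.Agent.S0205

/-!
# Products of a cyclic group and a group with cyclic Sylow subgroups
-/

set_option autoImplicit false
set_option linter.unusedSectionVars false

namespace Cfsg.Agent.Perm.CyclicTimesZ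

open MulAction Subgroup

universe u

/-- The conclusion: a homomorphism onto `PGL₂(p)` with soluble kernel. -/
def Concl (G : Type u) [Group G] : Prop :=
  ∃ (F : Type) (_ : Field F) (_ : Fintype F), (Fintype.card F).Prime ∧ 3 < Fintype.card F ∧
    ∃ π : G →* Matrix.ProjGenLinGroup (Fin 2) F, Function.Surjective π ∧ Group.IsSolvable π.ker

theorem solvable_of_normal {G : Type u} [Group G] (N : Subgroup G) [N.Normal]
    (h1 : Group.IsSolvable N) (h2 : Group.IsSolvable (G ⧸ N)) : Group.IsSolvable G := by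
  haveI := h1
  haveI := h2
  exact (Group.isSolvable_iff_subgroup_quotient N).2 ⟨inferInstance, inferInstance⟩

theorem solvable_of_le {G : Type u} [Group G] {H K : Subgroup G} (h : H ≤ K) (hK : Group.IsSolvable K) :
    Group.IsSolvable H := by
  haveI := hK
  exact Group.isSolvable_of_isSolvable_injective (f := Subgroup.inclusion h) (Subgroup.inclusion_injective h)

theorem eq_bot_of_rad {G : Type u} [Group G] [Finite G] (hR : solvableRadical G = ⊥) (N : Subgroup G)
    [hN : N.Normal] (hs : Group.IsSolvable N) : N = ⊥ :=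
  le_bot_iff.1 (hR ▸ Cfsg.Agent.Perm.Kazarin.le_rad hN hs)

/-- The primitive case. -/
theorem corefree_case {G : Type u} [Group G] [Finite G] (hG : ¬ Group.IsSolvable G)
    (hR : solvableRadical G = ⊥) (A B : Subgroup G) (hA : IsCyclic A) (hB : IsZGroup B)
    (hAB : ∀ g : G, ∃ a ∈ A, ∃ b ∈ B, g = a * b) (hcore : B.normalCore = ⊥) (hmax : IsCoatom B)
    (hinf : A ⊓ B = ⊥) : Concl G := by
  classical
  haveI := hA
  haveI : Fact (Nat.Prime 2) := ⟨Nat.prime_two⟩
  have hprod : Nat.card A * Nat.card B = Nat.card G := by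
    rw [← Nat.card_prod]
    refine Nat.card_eq_of_bijective (fun p : A × B => (p.1 : G) * p.2) ⟨?_, fun g => ?_⟩
    · exact Subgroup.mul_injective_of_disjoint (disjoint_iff.2 hinf)
    · obtain ⟨a, ha, b, hb, rfl⟩ := hAB g
      exact ⟨(⟨a, ha⟩, ⟨b, hb⟩), rfl⟩
  let Ω := G ⧸ B
  haveI : FaithfulSMul G Ω := ⟨fun {g₁ g₂} h => by
    have hmem : g₂⁻¹ * g₁ ∈ (MulAction.toPermHom G (G ⧸ B)).ker := by
      rw [MonoidHom.mem_ker]
      refine Equiv.ext fun x => ?_
      show (g₂⁻¹ * g₁) • x = x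
      rw [mul_smul, h x, inv_smul_smul]
    rw [← Subgroup.normalCore_eq_ker, hcore, Subgroup.mem_bot, inv_mul_eq_one] at hmem
    exact hmem.symm⟩
  have hn : Nat.card Ω = Nat.card A := by
    have e := B.card_eq_card_quotient_mul_card_subgroup
    rw [← hprod] at e
    exact (Nat.eq_of_mul_eq_mul_right Nat.card_pos e).symm
  have hAt : ∀ a c : Ω, ∃ g ∈ A, g • a = c := by
    intro a c
    induction a using QuotientGroup.induction_on with | H g =>
    induction c using QuotientGroup.induction_on with | H g' =>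
    obtain ⟨x, hx, b, hb, rfl⟩ := hAB g
    obtain ⟨x', hx', b', hb', rfl⟩ := hAB g'
    refine ⟨x' * x⁻¹, mul_mem hx' (inv_mem hx), ?_⟩
    show ((x' * x⁻¹ * (x * b) : G) : G ⧸ B) = _
    rw [QuotientGroup.eq, show (x' * x⁻¹ * (x * b))⁻¹ * (x' * b') = b⁻¹ * b' by group]
    exact mul_mem (inv_mem hb) hb'
  have hBsol : Group.IsSolvable B := by haveI := hB; infer_instance
  -- the degree is even
  have heven : Even (Nat.card Ω) := by
    by_contra hodd
    rw [hn, even_iff_two_dvd] at hodd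
    obtain ⟨Q⟩ : Nonempty (Sylow 2 B) := inferInstance
    obtain ⟨S, hS⟩ := (Q.isPGroup'.map B.subtype).exists_le_sylow
    have he : (Q : Subgroup B).map B.subtype = (S : Subgroup G) := Subgroup.eq_of_le_of_card_ge hS (by
      rw [Subgroup.card_map_of_injective B.subtype_injective, Q.card_eq_multiplicity,
        S.card_eq_multiplicity, ← hprod, Nat.factorization_mul Nat.card_pos.ne' Nat.card_pos.ne',
        Finsupp.add_apply, Nat.factorization_eq_zero_of_not_dvd hodd, zero_add])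
    haveI := hB
    haveI : IsCyclic (Q : Subgroup B) := IsZGroup.isZGroup 2 Nat.prime_two Q
    have hScyc : IsCyclic (S : Subgroup G) := by
      rw [← he]
      exact isCyclic_of_surjective _ ((Q : Subgroup B).equivMapOfInjective _ B.subtype_injective).surjective
    obtain ⟨K, hK, hKodd, hKS⟩ := cyclic_two_complement S hScyc
    have hKsol : Group.IsSolvable K := Cfsg.Agent.S0205.result hKodd
    have hK1 : K = ⊥ := eq_bot_of_rad hR K hKsol
    subst hK1
    have hST : (S : Subgroup G) = ⊤ := Subgroup.isComplement'_bot_left.1 hKS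
    haveI := hScyc
    refine hG (Group.isSolvable_of_surjective (f := (S : Subgroup G).subtype) fun g => ⟨⟨g, hST ▸ Subgroup.mem_top g⟩, rfl⟩)
  have h4 : 4 ≤ Nat.card Ω := by
    obtain ⟨m, hm⟩ := heven
    have hpos : 0 < Nat.card Ω := Nat.card_pos
    by_contra hlt
    have h2 : B.index = 2 := by show Nat.card Ω = 2; omega
    haveI := Subgroup.normal_of_index_eq_two h2
    rw [Subgroup.normalCore_eq_self B] at hcore
    have hcardG : Nat.card G = 2 := by
      rw [← B.card_mul_index, h2, hcore, Subgroup.card_bot, one_mul]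
    exact hG (by
      haveI := isCyclic_of_prime_card hcardG
      infer_instance)
  have hmax' : ∀ (a : Ω) (X : Subgroup G), stabilizer G a ≤ X → X ≠ stabilizer G a → X = ⊤ := by
    intro a X hle hne
    induction a using QuotientGroup.induction_on with | H g =>
    have hst : stabilizer G ((g : G) : Ω) = B.map (MulAut.conj g).toMonoidHom := by
      have e : ((g : G) : Ω) = g • ((1 : G) : Ω) := by show _ = ((g * 1 : G) : G ⧸ B); rw [mul_one]
      rw [e, stabilizer_smul_eq_stabilizer_map_conj, stabilizer_quotient]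
    rw [hst] at hle hne
    have h1 : B ≤ X.comap (MulAut.conj g).toMonoidHom := Subgroup.map_le_iff_le_comap.1 hle
    have hsurj : Function.Surjective (MulAut.conj g).toMonoidHom := (MulAut.conj g).surjective
    rcases lt_or_eq_of_le h1 with hlt | heq
    · have := hmax.2 _ hlt
      rw [eq_top_iff] at this ⊢
      intro x _
      obtain ⟨y, rfl⟩ := hsurj x
      exact this (Subgroup.mem_top y)
    · exfalso
      exact hne (by rw [heq, Subgroup.map_comap_eq_self_of_surjective hsurj])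
  have hh : Hyp G Ω := by
    refine ⟨tt_of_primitive hmax' A hA hAt heven, heven, h4, fun a => ?_, A, hA, hAt⟩
    obtain ⟨g, -, hg⟩ := hAt a ((1 : G) : Ω)
    haveI : IsZGroup (stabilizer G (((1 : G) : Ω))) := by rw [stabilizer_quotient]; exact hB
    exact IsZGroup.of_injective (f := (stabilizerEquivStabilizer hg.symm).toMonoidHom) (MulEquiv.injective _)
  have hsh := core _ G Ω rfl hh
  cases nonempty_fintype Ω
  obtain ⟨a⟩ : Nonempty Ω := ⟨((1 : G) : G ⧸ B)⟩
  obtain ⟨b, hb⟩ := exists_ne (by omega) a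
  have h3p : Cfsg.Agent.Lie.Zassenhaus.ThreePoint G Ω := fun g x y w h1 h2 h3 => hsh.three g x y w h1 h2 h3
  have h2p : IsMultiplyPretransitive G Ω 2 := is_two_pretransitive_iff.2 fun h1 h2 => hh.tt h1 h2
  have hTwo : Cfsg.Agent.Lie.SharpCoords.Two G a b = (stabilizer G a ⊓ stabilizer G b : Subgroup G) := by
    ext g
    rfl
  obtain ⟨F, iF, iFF, hcardF, ⟨e⟩⟩ : ∃ (F : Type) (_ : Field F) (_ : Fintype F),
      Fintype.card F = Fintype.card Ω - 1 ∧ Nonempty (G ≃* Matrix.ProjGenLinGroup (Fin 2) F) := by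
    refine Cfsg.Agent.Lie.SharpCoords.with_coords h2p h3p hb.symm (by
      rw [hTwo, hsh.card_two a b hb, Nat.card_eq_fintype_card]) (by rw [← Nat.card_eq_fintype_card]; exact h4) ?_
    intro p f hp V _ _ _ _ ρ π t e τ T z C
    obtain ⟨F, iF, iFF, hF, hiso⟩ := Cfsg.Agent.Lie.SharpPGL.pgl_of_comm h2p hb.symm C fun g g' => by
      have hc := hh.two_cyclic hb
      refine Subtype.ext (comm_of_cyclic hc ?_ ?_)
      · exact hTwo ▸ g.2
      · exact hTwo ▸ g'.2
    have h1 : p ^ f = Fintype.card Ω - 1 := by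
      have := C.card
      rw [C.pf] at this
      omega
    exact ⟨F, iF, iFF, hF.trans h1, hiso⟩
  have hp : (Fintype.card F).Prime := by
    rw [hcardF, ← Nat.card_eq_fintype_card]; exact hsh.prime
  refine ⟨F, iF, iFF, hp, ?_, e.toMonoidHom, e.surjective, ?_⟩
  · by_contra hle
    apply hG
    rw [hcardF, ← Nat.card_eq_fintype_card] at hle
    haveI := Cfsg.Agent.Solv.Triple.solvable_perm_four (α := Ω) (by rw [← Nat.card_eq_fintype_card]; omega)
    exact Group.isSolvable_of_isSolvable_injective (f := MulAction.toPermHom G Ω) MulAction.toPerm_injective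
  · have : e.toMonoidHom.ker = ⊥ := (MonoidHom.ker_eq_bot_iff _).2 e.injective
    rw [this]
    infer_instance

theorem product_bound {a c e1 e2 : ℕ} (h1 : 4 ≤ e1) (h2 : 4 ≤ e2)
    (h : (a ≤ 2 ∧ c ≤ e1 + e2) ∨ (c ≤ 2 ∧ a ≤ e1 + e2) ∨ (a ≤ e1 ∧ c ≤ e2) ∨ (a ≤ e2 ∧ c ≤ e1)) :
    a * c < 2 * e1 * e2 := by
  have h12 : e1 + e2 < e1 * e2 := by
    have := Nat.mul_le_mul_right e2 h1
    have := Nat.mul_le_mul_left e1 h2
    omega
  rw [show 2 * e1 * e2 = 2 * (e1 * e2) by ring]
  rcases h with ⟨ha, hc⟩ | ⟨hc, ha⟩ | ⟨ha, hc⟩ | ⟨ha, hc⟩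
  · have := Nat.mul_le_mul ha hc; omega
  · have := Nat.mul_le_mul ha hc; omega
  · have := Nat.mul_le_mul ha hc; omega
  · have := Nat.mul_le_mul ha hc; rw [mul_comm e2 e1] at this; omega

theorem dvd_or_dvd_pow {a b : ℕ} (ha : ∃ k, a = 2 ^ k) (hb : ∃ k, b = 2 ^ k) :
    a ∣ b ∨ b ∣ a := by
  obtain ⟨k, rfl⟩ := ha
  obtain ⟨l, rfl⟩ := hb
  rcases le_total k l with h | h
  · exact Or.inl (pow_dvd_pow 2 h)
  · exact Or.inr (pow_dvd_pow 2 h)

/-- Two projective linear images are impossible. -/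
theorem no_double {G : Type u} [Group G] [Finite G] (A B : Subgroup G) (hA : IsCyclic A) (hB : IsZGroup B)
    (hAB : ∀ g : G, ∃ a ∈ A, ∃ b ∈ B, g = a * b) {F F' : Type} [Field F] [Fintype F] [Field F'] [Fintype F']
    (hr : (Fintype.card F).Prime) (hF : 3 < Fintype.card F) (hr' : (Fintype.card F').Prime)
    (hF' : 3 < Fintype.card F')
    (π1 : G →* Matrix.ProjGenLinGroup (Fin 2) F) (h1 : Function.Surjective π1)
    (π2 : G →* Matrix.ProjGenLinGroup (Fin 2) F') (h2 : Function.Surjective π2)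
    (hinj : π1.ker ⊓ π2.ker = ⊥) (N : Subgroup G) [N.Normal] (hN : N ≤ π2.ker)
    (hNc : Nat.card N * 2 = Nat.card (Matrix.ProjGenLinGroup (Fin 2) F)) : False := by
  classical
  haveI : Fact (Nat.Prime 2) := ⟨Nat.prime_two⟩
  haveI := Classical.Dickson.finite_pgl F
  haveI := Classical.Dickson.finite_pgl F'
  obtain ⟨S, x, y, hx, hy, hS⟩ := sylow_product A B hA hB hAB
  have himg : ∀ {K : Type} [Field K] [Fintype K], (Fintype.card K).Prime → 3 < Fintype.card K →
      ∀ π : G →* Matrix.ProjGenLinGroup (Fin 2) K, Function.Surjective π →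
      ∃ e : ℕ, 4 ≤ e ∧ Nat.card ((S : Subgroup G).map π) = 2 * e ∧
        2 ^ (Nat.card (Matrix.ProjGenLinGroup (Fin 2) K)).factorization 2 = 2 * e ∧
        orderOf (π x) ≤ e ∧ orderOf (π y) ≤ e ∧ (orderOf (π x) ≤ 2 ∨ orderOf (π y) ≤ 2) := by
    intro K _ _ hK1 hK2 π hπ
    haveI := Classical.Dickson.finite_pgl K
    let S' := S.mapSurjective hπ
    have hS' : (S' : Subgroup _) = (S : Subgroup G).map π := Sylow.coe_mapSurjective hπ S
    obtain ⟨e, he, hc, hle, hpair⟩ := pgl_pair hK1 hK2 S'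
    have hxS : π x ∈ (S' : Subgroup _) := hS'.symm ▸ Subgroup.mem_map_of_mem π hx
    have hyS : π y ∈ (S' : Subgroup _) := hS'.symm ▸ Subgroup.mem_map_of_mem π hy
    refine ⟨e, he, by rw [← hS']; exact hc, ?_, hle _ hxS, hle _ hyS, hpair _ hxS _ hyS fun s hs => ?_⟩
    · rw [← hc, S'.card_eq_multiplicity]
    · rw [hS'] at hs
      obtain ⟨s', hs', rfl⟩ := hs
      obtain ⟨i, j, rfl⟩ := hS s' hs'
      exact ⟨i, j, by rw [map_mul, map_pow, map_pow]⟩
  obtain ⟨e1, he1, -, hfac1, hx1, hy1, hxy1⟩ := himg hr hF π1 h1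
  obtain ⟨e2, he2, hc2, -, hx2, hy2, hxy2⟩ := himg hr' hF' π2 h2
  -- lower bound
  obtain ⟨g, A', hA'S, hA'N, hA'c⟩ := exists_two_part_le N S
  have hA'N' : A' ≤ N := by
    intro z hz
    obtain ⟨n, hn, rfl⟩ := hA'N hz
    exact (inferInstance : N.Normal).conj_mem n hn g
  let ρ := π2.comp (S : Subgroup G).subtype
  have hker : Nat.card A' ≤ Nat.card ρ.ker := by
    refine Nat.card_le_card_of_injective (fun a : A' => (⟨⟨(a : G), hA'S a.2⟩, ?_⟩ : ρ.ker)) ?_
    · exact hN (hA'N' a.2)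
    · intro a a' e
      exact Subtype.ext (congrArg (fun r : ρ.ker => ((r : S) : G)) e)
  have hcardS : Nat.card ρ.ker * (2 * e2) = Nat.card (S : Subgroup G) := by
    have e := ρ.ker.card_mul_index
    rw [Subgroup.index_ker, MonoidHom.range_comp, Subgroup.range_subtype, hc2] at e
    exact e
  have hA'card : 2 * e1 ≤ Nat.card A' * 2 := by
    rw [← hfac1, ← hNc, Nat.factorization_mul Nat.card_pos.ne' two_ne_zero, Finsupp.add_apply,
      Nat.prime_two.factorization_self, pow_succ, hA'c]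
  have hlow : 2 * e1 * e2 ≤ Nat.card (S : Subgroup G) := by
    rw [← hcardS]
    calc 2 * e1 * e2 ≤ Nat.card A' * 2 * e2 := Nat.mul_le_mul_right _ hA'card
      _ = Nat.card A' * (2 * e2) := by ring
      _ ≤ _ := Nat.mul_le_mul_right _ hker
  -- upper bound
  have hord : ∀ z ∈ (S : Subgroup G),
      orderOf z ∣ orderOf (π1 z) ∨ orderOf z ∣ orderOf (π2 z) := by
    intro z hz
    have hpow : ∀ {K : Type} [Group K] (π : G →* K), ∃ k, orderOf (π z) = 2 ^ k := by
      intro K _ π
      obtain ⟨k, hk⟩ := IsPGroup.iff_orderOf.1 S.isPGroup' ⟨z, hz⟩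
      rw [Subgroup.orderOf_mk] at hk
      obtain ⟨l, -, hl⟩ := (Nat.dvd_prime_pow Nat.prime_two).1 (hk ▸ orderOf_map_dvd π z)
      exact ⟨l, hl⟩
    have hkey : ∀ m, orderOf (π1 z) ∣ m → orderOf (π2 z) ∣ m → orderOf z ∣ m := by
      intro m hm1 hm2
      rw [orderOf_dvd_iff_pow_eq_one, ← map_pow] at hm1 hm2
      rw [orderOf_dvd_iff_pow_eq_one, ← Subgroup.mem_bot, ← hinj]
      exact ⟨hm1, hm2⟩
    rcases dvd_or_dvd_pow (hpow π1) (hpow π2) with h | h
    · exact Or.inr (hkey _ h dvd_rfl)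
    · exact Or.inl (hkey _ dvd_rfl h)
  have hup : Nat.card (S : Subgroup G) ≤ orderOf x * orderOf y := by
    rw [← Nat.card_zpowers, ← Nat.card_zpowers, ← Nat.card_prod]
    refine Nat.card_le_card_of_surjective (fun p : zpowers x × zpowers y =>
      (⟨(p.1 : G) * p.2, mul_mem (zpowers_le.2 hx p.1.2) (zpowers_le.2 hy p.2.2)⟩ : (S : Subgroup G))) ?_
    rintro ⟨s, hs⟩
    obtain ⟨i, j, rfl⟩ := hS s hs
    exact ⟨(⟨x ^ i, pow_mem (mem_zpowers x) i⟩, ⟨y ^ j, pow_mem (mem_zpowers y) j⟩), rfl⟩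
  have hxo : orderOf x ≤ orderOf (π1 x) ∨ orderOf x ≤ orderOf (π2 x) :=
    (hord x hx).imp (Nat.le_of_dvd (orderOf_pos _)) (Nat.le_of_dvd (orderOf_pos _))
  have hyo : orderOf y ≤ orderOf (π1 y) ∨ orderOf y ≤ orderOf (π2 y) :=
    (hord y hy).imp (Nat.le_of_dvd (orderOf_pos _)) (Nat.le_of_dvd (orderOf_pos _))
  have hfin : orderOf x * orderOf y < 2 * e1 * e2 := product_bound he1 he2 (by omega)
  omega

theorem map_factor {G : Type u} [Group G] (A B : Subgroup G)
    (hAB : ∀ g : G, ∃ a ∈ A, ∃ b ∈ B, g = a * b) {K : Type u} [Group K] {f : G →* K}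
    (hf : Function.Surjective f) : ∀ k : K, ∃ a ∈ A.map f, ∃ b ∈ B.map f, k = a * b := by
  intro k
  obtain ⟨g, rfl⟩ := hf k
  obtain ⟨a, ha, b, hb, rfl⟩ := hAB g
  exact ⟨f a, Subgroup.mem_map_of_mem f ha, f b, Subgroup.mem_map_of_mem f hb, map_mul f a b⟩

theorem map_cyclic {G : Type u} [Group G] (A : Subgroup G) (hA : IsCyclic A) {K : Type u} [Group K]
    (f : G →* K) : IsCyclic (A.map f) := by
  haveI := hA
  exact isCyclic_of_surjective _ (f.subgroupMap_surjective A)

theorem map_zgroup {G : Type u} [Group G] [Finite G] (B : Subgroup G) (hB : IsZGroup B) {K : Type u} [Group K]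
    (f : G →* K) : IsZGroup (B.map f) := by
  haveI := hB
  exact IsZGroup.of_surjective (f.subgroupMap_surjective B)

theorem main_aux : ∀ (n : ℕ) (G : Type u) [Group G] [Finite G], Nat.card G = n → ¬ Group.IsSolvable G →
    ∀ A B : Subgroup G, IsCyclic A → IsZGroup B → (∀ g : G, ∃ a ∈ A, ∃ b ∈ B, g = a * b) → Concl G := by
  intro n
  induction n using Nat.strong_induction_on with
  | _ n ih =>
  intro G _ _ hn hG A B hA hB hAB
  classical
  subst hn
  haveI hRn : (solvableRadical G).Normal := Cfsg.Agent.Perm.Kazarin.rad_normal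
  have hquot : ∀ (N : Subgroup G) [N.Normal], N ≠ ⊥ → ¬ Group.IsSolvable (G ⧸ N) →
      Concl (G ⧸ N) := by
    intro N _ hN hns
    refine ih _ ?_ (G ⧸ N) rfl hns (A.map (QuotientGroup.mk' N)) (B.map (QuotientGroup.mk' N))
      (map_cyclic A hA _) (map_zgroup B hB _) (map_factor A B hAB (QuotientGroup.mk'_surjective N))
    rw [N.card_eq_card_quotient_mul_card_subgroup]
    have h1 := (Subgroup.one_lt_card_iff_ne_bot N).2 hN
    have h2 : 0 < Nat.card (G ⧸ N) := Nat.card_pos
    nlinarith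
  by_cases hR : solvableRadical G = ⊥
  swap
  · obtain ⟨F, iF, iFF, hp, h3, π, hπ, hker⟩ := hquot _ hR fun h =>
      hG (solvable_of_normal _ Cfsg.Agent.Perm.Kazarin.rad_solvable h)
    refine ⟨F, iF, iFF, hp, h3, π.comp (QuotientGroup.mk' _), hπ.comp (QuotientGroup.mk'_surjective _), ?_⟩
    have hle : solvableRadical G ≤ (π.comp (QuotientGroup.mk' (solvableRadical G))).ker := fun x hx => by
      rw [MonoidHom.mem_ker, MonoidHom.comp_apply, QuotientGroup.mk'_apply,
        (QuotientGroup.eq_one_iff x).2 hx, map_one]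
    set K := (π.comp (QuotientGroup.mk' (solvableRadical G))).ker
    let g : K →* π.ker := ((QuotientGroup.mk' (solvableRadical G)).comp K.subtype).codRestrict _ fun x => x.2
    haveI : Group.IsSolvable (solvableRadical G) := Cfsg.Agent.Perm.Kazarin.rad_solvable
    haveI := hker
    refine Group.isSolvable_of_ker_le_range (Subgroup.inclusion hle) g fun x hx => ?_
    have h1 : ((x : G) : G ⧸ solvableRadical G) = 1 := congrArg Subtype.val hx
    exact ⟨⟨x, (QuotientGroup.eq_one_iff _).1 h1⟩, rfl⟩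
  haveI := hB
  have hBtop : B ≠ ⊤ := by
    rintro rfl
    haveI : Group.IsSolvable (⊤ : Subgroup G) := inferInstance
    exact hG (Group.isSolvable_of_surjective (f := (⊤ : Subgroup G).subtype) fun g => ⟨⟨g, trivial⟩, rfl⟩)
  obtain ⟨M, hM, hBM⟩ := (eq_top_or_exists_le_coatom B).resolve_left hBtop
  have hMfac : ∀ m ∈ M, ∃ a ∈ A ⊓ M, ∃ b ∈ B, m = a * b := by
    intro m hm
    obtain ⟨a, ha, b, hb, rfl⟩ := hAB m
    refine ⟨a, ⟨ha, ?_⟩, b, hb, rfl⟩
    have := mul_mem hm (inv_mem (hBM hb))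
    rwa [mul_inv_cancel_right] at this
  have hcoreA : A ⊓ M ≤ M.normalCore := by
    intro x hx g
    obtain ⟨a, ha, b, hb, hgab⟩ := hAB g⁻¹
    have hg : g = b⁻¹ * a⁻¹ := by rw [← inv_inv g, hgab, mul_inv_rev]
    have : g * x * g⁻¹ = b⁻¹ * x * b := by
      rw [hg, mul_inv_rev, inv_inv, inv_inv]
      calc b⁻¹ * a⁻¹ * x * (a * b) = b⁻¹ * (a⁻¹ * x * a) * b := by group
        _ = b⁻¹ * x * b := by rw [comm_of_cyclic hA (inv_mem ha) hx.1, inv_mul_cancel_right]
    rw [this]
    exact mul_mem (mul_mem (inv_mem (hBM hb)) hx.2) (hBM hb)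
  by_cases hK : M.normalCore = ⊥
  · have hMB : M = B := le_antisymm (fun m hm => by
      obtain ⟨a, ha, b, hb, rfl⟩ := hMfac m hm
      have ha1 : a = 1 := Subgroup.mem_bot.1 (hK ▸ hcoreA ha)
      rwa [ha1, one_mul]) hBM
    subst hMB
    exact corefree_case hG hR A M hA hB hAB hK hM (le_bot_iff.1 (hK ▸ hcoreA))
  set K := M.normalCore with hKdef
  have hKM : K ≤ M := Subgroup.normalCore_le M
  have hKns : ¬ Group.IsSolvable K := fun h => hK (eq_bot_of_rad hR K h)
  have hMns : ¬ Group.IsSolvable M := fun h => hKns (solvable_of_le hKM h)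
  have hMlt : Nat.card M < Nat.card G :=
    lt_of_le_of_ne M.card_le_card_group fun e => hM.1 (M.eq_top_of_card_eq e)
  obtain ⟨F, iF, iFF, hr, hF, π, hπ, hker⟩ := ih _ hMlt M rfl hMns ((A ⊓ M).subgroupOf M) (B.subgroupOf M)
    (by
      haveI := hA
      haveI : IsCyclic (A ⊓ M : Subgroup G) := Subgroup.isCyclic_of_le inf_le_left
      exact isCyclic_of_surjective _ (subgroupOfEquivOfLe (inf_le_right : A ⊓ M ≤ M)).symm.surjective)
    (IsZGroup.of_surjective (f := (subgroupOfEquivOfLe hBM).symm.toMonoidHom) (subgroupOfEquivOfLe hBM).symm.surjective)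
    (fun m => by
      obtain ⟨a, ha, b, hb, e⟩ := hMfac m m.2
      exact ⟨⟨a, ha.2⟩, Subgroup.mem_subgroupOf.2 ha, ⟨b, hBM hb⟩, Subgroup.mem_subgroupOf.2 hb, Subtype.ext e⟩)
  haveI := Classical.Dickson.finite_pgl F
  set Q := Matrix.ProjGenLinGroup (Fin 2) F
  set KM := K.subgroupOf M
  have hKinj : ∀ k : M, (k : G) ∈ K → π k = 1 → k = 1 := by
    intro k hk hk1
    let f : K →* M := Subgroup.inclusion hKM
    haveI := hker
    haveI : (π.ker.comap f).Normal := inferInstance
    have hs : Group.IsSolvable (π.ker.comap f) := by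
      let g : π.ker.comap f →* π.ker := (f.comp (π.ker.comap f).subtype).codRestrict _ fun x => x.2
      exact Group.isSolvable_of_isSolvable_injective (f := g) (fun a b e =>
        Subtype.ext (Subgroup.inclusion_injective hKM (congrArg Subtype.val e)))
    have h1 : ((⟨k, hk⟩ : K) : G) ∈ (solvableRadical K).map K.subtype :=
      Subgroup.mem_map_of_mem _ (Cfsg.Agent.Perm.Kazarin.le_rad inferInstance hs (show π (f ⟨k, hk⟩) = 1 from hk1))
    have h2 := Cfsg.Agent.Perm.Kazarin.map_rad_le K h1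
    rw [hR, Subgroup.mem_bot] at h2
    exact Subtype.ext h2
  have himgne : KM.map π ≠ ⊥ := by
    intro h
    apply hK
    rw [Subgroup.eq_bot_iff_forall]
    intro k hk
    have hkM : (⟨k, hKM hk⟩ : M) ∈ KM := Subgroup.mem_subgroupOf.2 hk
    have h1 : π ⟨k, hKM hk⟩ = 1 := Subgroup.mem_bot.1 (h ▸ Subgroup.mem_map_of_mem π hkM)
    exact congrArg Subtype.val (hKinj ⟨k, hKM hk⟩ hk h1)
  haveI hKMn : KM.Normal := inferInstance
  haveI : (KM.map π).Normal := hKMn.map π hπ
  have hPK := Model.psl_le_of_normal hF (KM.map π) himgne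
  set N := ⁅K, K⁆ with hNdef
  haveI : N.Normal := inferInstance
  have hNK : N ≤ K := Subgroup.commutator_le_self K
  have hNM : N ≤ M := hNK.trans hKM
  have hNmap : (N.subgroupOf M).map π = Model.psl := by
    have e : ⁅KM, KM⁆ = N.subgroupOf M := by
      apply Subgroup.map_injective M.subtype_injective
      rw [Subgroup.map_commutator, Subgroup.map_subgroupOf_eq_of_le hKM, Subgroup.map_subgroupOf_eq_of_le hNM]
    rw [← e, Subgroup.map_commutator, Model.commutator_eq hF hr rfl hPK]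
  let ν : N →* (Model.psl (F := F)) := (π.comp (Subgroup.inclusion hNM)).codRestrict _ fun x =>
    hNmap ▸ Subgroup.mem_map_of_mem π (Subgroup.mem_subgroupOf.2 x.2)
  have hν : Function.Bijective ν := by
    refine ⟨(injective_iff_map_eq_one _).2 fun x hx => ?_, fun z => ?_⟩
    · have := hKinj ⟨x, hNM x.2⟩ (hNK x.2) (congrArg Subtype.val hx)
      exact Subtype.ext (congrArg Subtype.val this :)
    · have hz : (z : Q) ∈ (N.subgroupOf M).map π := hNmap.symm ▸ z.2
      obtain ⟨w, hw, hwz⟩ := hz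
      exact ⟨⟨w, Subgroup.mem_subgroupOf.1 hw⟩, Subtype.ext hwz⟩
  let eN := MulEquiv.ofBijective ν hν
  have hNcard : Nat.card N = Nat.card (Model.psl (F := F)) := Nat.card_congr eN.toEquiv
  let φ : G →* MulAut N := MulAut.conjNormal
  set C := φ.ker
  have hCmem : ∀ g : G, g ∈ C ↔ ∀ x ∈ N, g * x = x * g := by
    intro g
    rw [MonoidHom.mem_ker]
    constructor
    · intro h x hx
      have := congrArg (fun α : MulAut N => ((α ⟨x, hx⟩ : N) : G)) h
      simp only [φ, MulAut.conjNormal_apply, MulAut.one_apply] at this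
      exact mul_inv_eq_iff_eq_mul.1 this
    · intro h
      refine MulEquiv.ext fun x => Subtype.ext ?_
      show (MulAut.conjNormal g x : G) = x
      rw [MulAut.conjNormal_apply, h x x.2, mul_inv_cancel_right]
  have hCM : ∀ m : M, (m : G) ∈ C ↔ π m = 1 := by
    intro m
    rw [hCmem]
    constructor
    · intro h
      refine Model.centralizer_trivial fun z hz => ?_
      obtain ⟨w, hw, rfl⟩ := (hNmap.symm ▸ hz : z ∈ (N.subgroupOf M).map π)
      rw [← map_mul, ← map_mul]
      exact congrArg π (Subtype.ext (h w (Subgroup.mem_subgroupOf.1 hw)))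
    · intro hm x hx
      have h1 : m * ⟨x, hNM hx⟩ * m⁻¹ * (⟨x, hNM hx⟩ : M)⁻¹ = 1 := hKinj _
        (show (m : G) * x * (m : G)⁻¹ * x⁻¹ ∈ K from
          mul_mem ((inferInstance : K.Normal).conj_mem x (hNK hx) m) (inv_mem (hNK hx)))
        (by simp [hm])
      exact congrArg Subtype.val (mul_inv_eq_iff_eq_mul.1 (mul_inv_eq_one.1 h1))
  let ρ : M →* φ.range := φ.rangeRestrict.comp M.subtype
  have hρker : ρ.ker = π.ker := by
    ext m
    rw [MonoidHom.mem_ker, MonoidHom.mem_ker, ← hCM, MonoidHom.comp_apply, MonoidHom.mem_ker]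
    exact ⟨fun h => congrArg Subtype.val h, fun h => Subtype.ext h⟩
  have hρ : Function.Surjective ρ := by
    rw [← MonoidHom.range_eq_top]
    refine Subgroup.eq_top_of_le_card _ ?_
    calc Nat.card φ.range ≤ Nat.card (MulAut N) := Nat.card_le_card_of_injective _ Subtype.val_injective
      _ = Nat.card (MulAut (Model.psl (F := F))) := Nat.card_congr (MulAut.congr eN).toEquiv
      _ ≤ Nat.card Q := Model.card_mulAut_le hF hr rfl
      _ = π.ker.index := by rw [Subgroup.index_ker, MonoidHom.range_eq_top.2 hπ, Subgroup.card_top]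
      _ = ρ.ker.index := by rw [hρker]
      _ = Nat.card ρ.range := Subgroup.index_ker ρ
  let θ : φ.range →* Q := ρ.liftOfSurjective hρ ⟨π, hρker.le⟩
  let π1 : G →* Q := θ.comp φ.rangeRestrict
  have hπ1M : ∀ m : M, π1 m = π m := fun m =>
    MonoidHom.liftOfRightInverse_comp_apply ρ _ (Function.rightInverse_surjInv hρ) ⟨π, hρker.le⟩ m
  have hπ1 : Function.Surjective π1 := fun q => by
    obtain ⟨m, rfl⟩ := hπ q
    exact ⟨m, hπ1M m⟩
  have hMC : ∀ g : G, ∃ (m : M), φ.rangeRestrict (m : G) = φ.rangeRestrict g := fun g => hρ (φ.rangeRestrict g)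
  have hπ1ker : π1.ker = C := by
    ext g
    obtain ⟨m, hm⟩ := hMC g
    have e1 : π1 g = π m := by rw [← hπ1M m]; show θ _ = θ _; rw [hm]
    have e2 : φ (m : G) = φ g := congrArg Subtype.val hm
    rw [MonoidHom.mem_ker, e1, ← hCM m, MonoidHom.mem_ker, MonoidHom.mem_ker, e2]
  have hNC : ∀ x ∈ N, x ∈ C → x = 1 := fun x hx hxC =>
    congrArg Subtype.val (hKinj ⟨x, hNM hx⟩ (hNK hx) ((hCM ⟨x, hNM hx⟩).1 hxC))
  by_cases hC : C = ⊥
  · exfalso
    refine hM.1 ((Subgroup.eq_top_iff' M).2 fun g => ?_)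
    obtain ⟨m, hm⟩ := hMC g
    have e2 : φ (m : G) = φ g := congrArg Subtype.val hm
    have h1 : (m : G)⁻¹ * g ∈ C := by rw [MonoidHom.mem_ker, map_mul, map_inv, e2, inv_mul_cancel]
    rw [hC, Subgroup.mem_bot, inv_mul_eq_one] at h1
    exact h1 ▸ m.2
  exfalso
  have hCns : ¬ Group.IsSolvable C := fun h => hC (eq_bot_of_rad hR C h)
  have hmkC : ∀ x ∈ C, (x : G ⧸ N) = 1 → x = 1 := fun x hx h => hNC x ((QuotientGroup.eq_one_iff x).1 h) hx
  have hN1 : N ≠ ⊥ := fun h => by
    have : Subsingleton (Model.psl (F := F)) := by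
      haveI : Subsingleton N := by rw [h]; infer_instance
      exact eN.toEquiv.symm.subsingleton
    exact Model.psl_ne_bot hF (Subgroup.eq_bot_of_subsingleton _)
  obtain ⟨F', iF', iFF', hr', hF', π2', hπ2', hker2⟩ := hquot N hN1 fun h => hCns (by
    haveI := h
    refine Group.isSolvable_of_isSolvable_injective (f := (QuotientGroup.mk' N).comp C.subtype) ?_
    exact (injective_iff_map_eq_one _).2 fun x hx => Subtype.ext (hmkC x x.2 hx))
  let π2 := π2'.comp (QuotientGroup.mk' N)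
  have hinter : C ⊓ π2.ker = ⊥ := by
    refine eq_bot_of_rad hR _ ?_
    haveI := hker2
    let g : (C ⊓ π2.ker : Subgroup G) →* π2'.ker :=
      ((QuotientGroup.mk' N).comp (C ⊓ π2.ker).subtype).codRestrict _ fun x => x.2.2
    refine Group.isSolvable_of_isSolvable_injective (f := g) ((injective_iff_map_eq_one _).2 fun x hx =>
      Subtype.ext (hmkC x x.2.1 (congrArg Subtype.val hx)))
  refine no_double A B hA hB hAB hr hF hr' hF' π1 hπ1 π2 (hπ2'.comp (QuotientGroup.mk'_surjective N))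
    (by rw [hπ1ker]; exact hinter) N (fun x hx => ?_) ?_
  · rw [MonoidHom.mem_ker, MonoidHom.comp_apply, QuotientGroup.mk'_apply, (QuotientGroup.eq_one_iff x).2 hx, map_one]
  · rw [hNcard, Model.card_psl_two hF hr rfl]

end Cfsg.Agent.Perm.CyclicTimesZ
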