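import Cfsg.Agent.Lib.Perm.CyclicTimesZ.Basic
import Cfsg.Agent.Lib.Solv.SZ

/-!
# Doubly transitive groups of even degree with regular cyclic subgroup and Z-group stabilisers:
the point stabiliser
-/

set_option autoImplicit false
set_option linter.unusedSectionVars false

namespace Cfsg.Agent.Perm.CyclicTimesZ

open MulAction Subgroup
open scoped commutatorElement

universe u v

variable (G : Type u) (Ω : Type v) [Group G] [MulAction G Ω]

/-- The hypotheses of the core theorem. -/
structure Hyp : Prop where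
  tt : TT G Ω
  even : Even (Nat.card Ω)
  four : 4 ≤ Nat.card Ω
  zg : ∀ a : Ω, IsZGroup (stabilizer G a)
  cyc : ∃ A : Subgroup G, IsCyclic A ∧ ∀ a c : Ω, ∃ g ∈ A, g • a = c

variable {G Ω} [Finite G] [Finite Ω] [FaithfulSMul G Ω]

theorem Hyp.two_part (hh : Hyp G Ω) {a b : Ω} (hab : b ≠ a) :
    (Nat.card G).factorization 2 = (Nat.card Ω).factorization 2 +
      (Nat.card (stabilizer G a ⊓ stabilizer G b : Subgroup G)).factorization 2 := by
  have h4 := hh.four
  rw [← card_group hh.tt (by omega) a, ← card_stab hh.tt hab, ← mul_assoc,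
    Nat.factorization_mul (Nat.mul_ne_zero (by omega) (by omega)) Nat.card_pos.ne',
    Nat.factorization_mul (by omega) (by omega), Finsupp.add_apply, Finsupp.add_apply]
  have hodd : (Nat.card Ω - 1).factorization 2 = 0 := Nat.factorization_eq_zero_of_not_dvd (by
    obtain ⟨m, hm⟩ := hh.even
    omega)
  omega

/-- The two-point stabiliser has even order. -/
theorem Hyp.even_two (hh : Hyp G Ω) {a b : Ω} (hab : b ≠ a) :
    Even (Nat.card (stabilizer G a ⊓ stabilizer G b : Subgroup G)) := by
  by_contra hodd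
  obtain ⟨A, hA, hAt⟩ := hh.cyc
  have h4 := hh.four
  obtain ⟨S⟩ : Nonempty (Sylow 2 G) := inferInstance
  obtain ⟨g, A', hA'S, hA'A, hA'c⟩ := exists_two_part_le A S
  have h0 : (Nat.card (stabilizer G a ⊓ stabilizer G b : Subgroup G)).factorization 2 = 0 :=
    Nat.factorization_eq_zero_of_not_dvd fun h => hodd (even_iff_two_dvd.2 h)
  have hS : A' = (S : Subgroup G) := Subgroup.eq_of_le_of_card_ge hA'S
    (by rw [hA'c, card_sylow_two, hh.two_part hab, h0, card_regular A hA hAt a, add_zero])
  refine sylow_not_cyclic hh.tt hh.even (by omega) S ?_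
  haveI : IsCyclic A := hA
  haveI : IsCyclic (A.map (MulAut.conj g).toMonoidHom) :=
    isCyclic_of_surjective _ (A.equivMapOfInjective _ (MulEquiv.injective _)).surjective
  rw [← hS]
  exact Subgroup.isCyclic_of_le hA'A

/-- The derived subgroup of a point stabiliser. -/
noncomputable def stabDer (a : Ω) : Subgroup G :=
  (commutator (stabilizer G a)).map (stabilizer G a).subtype

theorem stabDer_le (a : Ω) : stabDer (G := G) a ≤ stabilizer G a := Subgroup.map_subtype_le _

theorem stabDer_conj (a : Ω) {m f : G} (hm : m ∈ stabilizer G a) (hf : f ∈ stabDer (G := G) a) :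
    m * f * m⁻¹ ∈ stabDer (G := G) a := by
  obtain ⟨f', hf', rfl⟩ := hf
  exact ⟨⟨m, hm⟩ * f' * ⟨m, hm⟩⁻¹, (inferInstance : (commutator (stabilizer G a)).Normal).conj_mem f' hf' _, rfl⟩

theorem Hyp.stabDer_cyclic (hh : Hyp G Ω) (a : Ω) : IsCyclic (stabDer (G := G) a) := by
  haveI := hh.zg a
  haveI : IsCyclic (commutator (stabilizer G a)) := IsZGroup.isCyclic_commutator _
  exact isCyclic_of_surjective _
    ((commutator (stabilizer G a)).equivMapOfInjective _ (stabilizer G a).subtype_injective).surjective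

theorem card_stabDer (a : Ω) : Nat.card (stabDer (G := G) a) = Nat.card (commutator (stabilizer G a)) :=
  Subgroup.card_map_of_injective (stabilizer G a).subtype_injective

/-- Elements of the stabiliser of order coprime to the index of the derived group lie in it. -/
theorem Hyp.mem_stabDer (hh : Hyp G Ω) {a : Ω} {x : G} (hx : x ∈ stabilizer G a)
    (h : orderOf x ∣ Nat.card (stabDer (G := G) a)) : x ∈ stabDer (G := G) a := by
  haveI := hh.zg a
  have hco := IsZGroup.coprime_commutator_index (G := stabilizer G a)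
  rw [card_stabDer] at h
  refine ⟨⟨x, hx⟩, ?_, rfl⟩
  have h1 : orderOf (QuotientGroup.mk' (commutator (stabilizer G a)) ⟨x, hx⟩) ∣ Nat.card (commutator (stabilizer G a)) := by
    refine (orderOf_map_dvd _ _).trans ?_
    rwa [← Subgroup.orderOf_coe]
  have h2 : orderOf (QuotientGroup.mk' (commutator (stabilizer G a)) ⟨x, hx⟩) ∣ (commutator (stabilizer G a)).index :=
    orderOf_dvd_natCard _
  have h3 : orderOf (QuotientGroup.mk' (commutator (stabilizer G a)) ⟨x, hx⟩) = 1 :=
    Nat.dvd_one.1 (hco ▸ Nat.dvd_gcd h1 h2)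
  exact (QuotientGroup.eq_one_iff _).1 (orderOf_eq_one_iff.1 h3)

theorem map_conj_mem {g x : G} {Q : Subgroup G} (hQ : Q = zpowers x) (h : g * x * g⁻¹ ∈ Q) :
    g ∈ normalizer (Q : Set G) := by
  rw [mem_normalizer_iff_map_conj_eq]
  refine Subgroup.eq_of_le_of_card_ge ?_ ?_
  · subst hQ
    rw [MonoidHom.map_zpowers, zpowers_le]
    exact h
  · rw [Subgroup.card_map_of_injective (MulEquiv.injective _)]

/-- The derived group of a point stabiliser acts semiregularly on the remaining points. -/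
theorem Hyp.stabDer_semiregular (hh : Hyp G Ω) {a c : Ω} (hc : c ≠ a) {d : G}
    (hd : d ∈ stabDer (G := G) a) (hdc : d • c = c) : d = 1 := by
  by_contra hd1
  have h4 := hh.four
  have ho : orderOf d ≠ 1 := fun e => hd1 (orderOf_eq_one_iff.1 e)
  have hq := Nat.minFac_prime ho
  have hqd := Nat.minFac_dvd (orderOf d)
  set q := (orderOf d).minFac
  set x := d ^ (orderOf d / q) with hxdef
  have hxo : orderOf x = q := orderOf_pow_orderOf_div (orderOf_pos d).ne' hqd
  have hxD : x ∈ stabDer (G := G) a := pow_mem hd _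
  have hxc : x ∈ stabilizer G c := pow_mem (mem_stabilizer_iff.2 hdc) _
  have hqD : q ∣ Nat.card (stabDer (G := G) a) := hxo ▸ Subgroup.orderOf_dvd_natCard _ hxD
  have hcyc := hh.stabDer_cyclic a
  have hin : ∀ g : G, g * x * g⁻¹ ∈ stabilizer G a → g * x * g⁻¹ ∈ zpowers x := by
    intro g hg
    have ho' : orderOf (g * x * g⁻¹) = q := by
      rw [← hxo, ← MulAut.conj_apply, MulEquiv.orderOf_eq]
    have hgD := hh.mem_stabDer hg (ho'.symm ▸ hqD)
    have e : zpowers (g * x * g⁻¹) = zpowers x := cyclic_sub_eq hcyc (zpowers_le.2 hgD) (zpowers_le.2 hxD)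
      (by rw [Nat.card_zpowers, Nat.card_zpowers, ho', hxo])
    exact e ▸ mem_zpowers _
  have hM : stabilizer G a ≤ normalizer (zpowers x : Set G) := fun m hm =>
    map_conj_mem rfl (hin m (mul_mem (mul_mem hm (stabDer_le a hxD)) (inv_mem hm)))
  obtain ⟨g, hg⟩ := hh.tt.moves (by omega) c a
  have hgN : g ∈ normalizer (zpowers x : Set G) := map_conj_mem rfl (hin g (by
    rw [mem_stabilizer_iff, mul_smul, mul_smul]
    have : g⁻¹ • a = c := by rw [inv_smul_eq_iff, hg]
    rw [this, mem_stabilizer_iff.1 hxc, hg]))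
  have hga : g • a ≠ a := fun e => hc (MulAction.injective g (hg.trans e.symm))
  haveI : (zpowers x).Normal := Subgroup.normalizer_eq_top_iff.1 (stab_maximal hh.tt hM hgN hga)
  have := normal_fix_eq_bot hh.tt (by omega) (zpowers x) (a := a) (zpowers_le.2 (stabDer_le a hxD))
  rw [zpowers_eq_bot] at this
  rw [this, orderOf_one] at hxo
  exact hq.ne_one hxo.symm

theorem comm_quot {M : Type*} [Group M] (x y : M) : ⁅x, y⁆ ∈ commutator M :=
  Subgroup.commutator_mem_commutator (Subgroup.mem_top x) (Subgroup.mem_top y)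

/-- The two-point stabiliser is cyclic. -/
theorem Hyp.two_cyclic (hh : Hyp G Ω) {a b : Ω} (hab : b ≠ a) :
    IsCyclic (stabilizer G a ⊓ stabilizer G b : Subgroup G) := by
  haveI := hh.zg a
  haveI : IsCyclic (Abelianization (stabilizer G a)) := IsZGroup.isCyclic_abelianization
  refine isCyclic_of_injective (G' := Abelianization (stabilizer G a))
    (Abelianization.of.comp (Subgroup.inclusion inf_le_left)) ?_
  rw [injective_iff_map_eq_one]
  intro k hk
  rw [MonoidHom.comp_apply, ← MonoidHom.mem_ker, Abelianization.ker_of] at hk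
  exact Subtype.ext (hh.stabDer_semiregular hab ⟨_, hk, rfl⟩ (mem_stabilizer_iff.1 k.2.2))

/-- Elements of the normaliser of a two-point stabiliser preserve its fixed point set. -/
theorem fixed_stable {H : Subgroup G} {g : G} (hg : g ∈ normalizer (H : Set G)) {x : Ω}
    (hx : ∀ k ∈ H, k • x = x) : ∀ k ∈ H, k • g • x = g • x := by
  intro k hk
  have h1 : g⁻¹ * k * g ∈ H := by
    have := (Subgroup.mem_normalizer_iff.1 (inv_mem hg) k).1 hk
    rwa [inv_inv] at this
  have := hx _ h1
  rwa [mul_smul, mul_smul, inv_smul_eq_iff] at this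

/-- A two-point stabiliser fixes exactly two points. -/
theorem Hyp.fix_two (hh : Hyp G Ω) {a b : Ω} (hab : b ≠ a) {x : Ω}
    (hx : ∀ k ∈ stabilizer G a ⊓ stabilizer G b, k • x = x) : x = a ∨ x = b := by
  classical
  have h4 := hh.four
  set H := stabilizer G a ⊓ stabilizer G b with hH
  let B : Set Ω := {y | ∀ k ∈ H, k • y = y}
  have haB : a ∈ B := fun k hk => hk.1
  have hbB : b ∈ B := fun k hk => hk.2
  set L := normalizer (H : Set G)
  have hB : ∀ g ∈ L, ∀ y ∈ B, g • y ∈ B := fun g hg y hy => fixed_stable hg hy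
  have hpair : ∀ c ∈ B, ∀ d ∈ B, c ≠ d → ∀ g : G, g • a = c → g • b = d → g ∈ L := by
    intro c hc d hd hcd g hgc hgd
    rw [mem_normalizer_iff_map_conj_eq]
    refine (Subgroup.eq_of_le_of_card_ge (fun k hk => ?_) ?_).symm
    · refine ⟨g⁻¹ * k * g, ⟨?_, ?_⟩, by simp [MulAut.conj_apply, mul_assoc]⟩
      · show (g⁻¹ * k * g) • a = a
        rw [mul_smul, mul_smul, hgc, hc k hk, inv_smul_eq_iff, hgc]
      · show (g⁻¹ * k * g) • b = b
        rw [mul_smul, mul_smul, hgd, hd k hk, inv_smul_eq_iff, hgd]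
    · rw [Subgroup.card_map_of_injective (MulEquiv.injective _)]
  have htt2 : ∀ c ∈ B, ∀ d ∈ B, c ≠ d → ∃ g ∈ L, g • a = c ∧ g • b = d := by
    intro c hc d hd hcd
    obtain ⟨g, h1, h2⟩ := hh.tt hab.symm hcd
    exact ⟨g, hpair c hc d hd hcd g h1 h2, h1, h2⟩
  have httB : TT (restrictHom L B hB).range B := tt_restrict hB (by
    intro a' ha' b' hb' c hc d hd hab' hcd
    obtain ⟨g, hg, h1, h2⟩ := htt2 a' ha' b' hb' hab'
    obtain ⟨g', hg', h1', h2'⟩ := htt2 c hc d hd hcd
    exact ⟨g' * g⁻¹, mul_mem hg' (inv_mem hg), by rw [mul_smul, ← h1, inv_smul_smul, h1'],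
      by rw [mul_smul, ← h2, inv_smul_smul, h2']⟩)
  -- parity of the number of fixed points
  have hHcard : 0 < Nat.card H := Nat.card_pos
  have hBne : ∃ t, Odd t ∧ Nat.card B = t + 1 := by
    have e := card_moves (L ⊓ stabilizer G a) b {y | y ∈ B ∧ y ≠ a}
      (fun g hg => ⟨hB g hg.1 b hbB, fun e => hab (MulAction.injective g (e.trans (mem_stabilizer_iff.1 hg.2).symm))⟩)
      fun c hc => by
        obtain ⟨g, hg, h1, h2⟩ := htt2 a haB c hc.1 hc.2.symm
        exact ⟨g, ⟨hg, h1⟩, h2⟩
    have hst : (L ⊓ stabilizer G a) ⊓ stabilizer G b = H := by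
      rw [inf_assoc, ← hH, inf_eq_right]
      exact Subgroup.le_normalizer
    rw [hst] at e
    have hdvd : Nat.card {y | y ∈ B ∧ y ≠ a} * Nat.card H ∣ (Nat.card Ω - 1) * Nat.card H := by
      rw [e, card_stab hh.tt hab]
      exact Subgroup.card_dvd_of_le inf_le_right
    have hodd : Odd (Nat.card Ω - 1) := by
      obtain ⟨m, hm⟩ := hh.even
      rw [Nat.odd_iff]
      omega
    refine ⟨_, hodd.of_dvd_nat (Nat.dvd_of_mul_dvd_mul_right hHcard hdvd), ?_⟩
    cases nonempty_fintype Ω
    have hset : {y | y ∈ B ∧ y ≠ a} = B \ {a} := rfl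
    rw [hset, Nat.card_coe_set_eq, Nat.card_coe_set_eq, Set.ncard_sdiff_singleton_add_one haB]
  obtain ⟨t, ht, hBcard⟩ := hBne
  have hBtwo : Nat.card B ≤ 2 := by
    by_contra hgt
    push Not at hgt
    obtain ⟨A, hA, hAt⟩ := hh.cyc
    obtain ⟨U⟩ : Nonempty (Sylow 2 L) := inferInstance
    -- the Sylow 2-subgroup of H
    obtain ⟨P⟩ : Nonempty (Sylow 2 H) := inferInstance
    set H2 := (P : Subgroup H).map H.subtype with hH2
    have hH2H : H2 ≤ H := Subgroup.map_subtype_le _
    have hH2L : H2 ≤ L := hH2H.trans Subgroup.le_normalizer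
    haveI hH2n : (H2.subgroupOf L).Normal := by
      refine ⟨fun k hk g => ?_⟩
      rw [Subgroup.mem_subgroupOf] at hk ⊢
      have hg : (g : G) ∈ normalizer (H2 : Set G) := by
        rw [mem_normalizer_iff_map_conj_eq]
        refine cyclic_sub_eq (hh.two_cyclic hab) ?_ hH2H ?_
        · rintro _ ⟨y, hy, rfl⟩
          exact (Subgroup.mem_normalizer_iff.1 g.2 y).1 (hH2H hy)
        · exact Subgroup.card_map_of_injective (MulEquiv.injective _)
      exact (Subgroup.mem_normalizer_iff.1 hg _).1 hk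
    have hPU : H2.subgroupOf L ≤ (U : Subgroup L) := by
      have hp : IsPGroup 2 (H2.subgroupOf L) :=
        (P.isPGroup'.map _).of_equiv (subgroupOfEquivOfLe hH2L).symm
      have h1 := U.is_maximal' (U.isPGroup'.to_sup_of_normal_right hp) le_sup_left
      exact le_sup_right.trans h1.le
    obtain ⟨S, hS⟩ := (U.isPGroup'.map L.subtype).exists_le_sylow
    obtain ⟨g, A', hA'S, hA'A, hA'c⟩ := exists_two_part_le A S
    haveI : IsCyclic A := hA
    haveI : IsCyclic (A.map (MulAut.conj g).toMonoidHom) :=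
      isCyclic_of_surjective _ (A.equivMapOfInjective _ (MulEquiv.injective _)).surjective
    haveI : IsCyclic A' := Subgroup.isCyclic_of_le hA'A
    have hA'a : ∀ y ∈ A', y ∈ H → y = 1 := by
      intro y hy hyH
      obtain ⟨y0, hy0, rfl⟩ := hA'A hy
      have hfix : y0 • (g⁻¹ • a) = g⁻¹ • a := by
        have e := mem_stabilizer_iff.1 hyH.1
        simp only [MulEquiv.coe_toMonoidHom, MulAut.conj_apply, mul_smul] at e
        rw [eq_inv_smul_iff, e]
      simp [semiregular A hA hAt hy0 hfix]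
    have hH2S : H2 ≤ (S : Subgroup G) := fun k hk =>
      hS ⟨⟨k, hH2L hk⟩, hPU (Subgroup.mem_subgroupOf.2 hk), rfl⟩
    -- S is the product
    let φ : A' × H2 → (S : Subgroup G) := fun p => ⟨p.1 * p.2, mul_mem (hA'S p.1.2) (hH2S p.2.2)⟩
    have hφ : Function.Bijective φ := by
      rw [Nat.bijective_iff_injective_and_card]
      refine ⟨?_, ?_⟩
      · rintro ⟨x1, k1⟩ ⟨x2, k2⟩ e
        have e' : (x1 : G) * k1 = x2 * k2 := congrArg Subtype.val e
        have h1 : (x2 : G)⁻¹ * x1 = k2 * (k1 : G)⁻¹ := by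
          rw [eq_mul_inv_iff_mul_eq, mul_assoc, e', inv_mul_cancel_left]
        have h2 : (x2 : G)⁻¹ * x1 = 1 := hA'a _ (mul_mem (inv_mem x2.2) x1.2)
          (h1 ▸ mul_mem (hH2H k2.2) (inv_mem (hH2H k1.2)))
        have hx : x1 = x2 := Subtype.ext (inv_mul_eq_one.1 h2).symm
        subst hx
        exact Prod.ext rfl (Subtype.ext (mul_left_cancel e'))
      · rw [Nat.card_prod, hA'c, hH2, Subgroup.card_map_of_injective H.subtype_injective,
          P.card_eq_multiplicity, card_regular A hA hAt a, ← pow_add, card_sylow_two, hh.two_part hab]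
    -- the image of U is cyclic
    have hUimg : (U : Subgroup L).map (restrictHom L B hB) ≤ (A'.subgroupOf L).map (restrictHom L B hB) := by
      rintro _ ⟨u, hu, rfl⟩
      obtain ⟨⟨x1, k1⟩, e⟩ := hφ.2 ⟨(u : G), hS ⟨u, hu, rfl⟩⟩
      have e' : (x1 : G) * k1 = (u : G) := congrArg Subtype.val e
      have hx1 : (x1 : G) ∈ L := by
        have := mul_mem u.2 (inv_mem (hH2L k1.2))
        rwa [← e', mul_inv_cancel_right] at this
      refine ⟨⟨x1, hx1⟩, x1.2, ?_⟩
      refine Equiv.ext fun y => Subtype.ext ?_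
      rw [restrictHom_apply, restrictHom_apply, ← e', mul_smul, y.2 k1 (hH2H k1.2)]
    haveI : IsCyclic (A'.subgroupOf L) := by
      refine isCyclic_of_injective (G' := A') ((L.subtype.comp (A'.subgroupOf L).subtype).codRestrict A'
        fun y => y.2) ?_
      intro y y' e
      exact Subtype.ext (Subtype.ext (congrArg Subtype.val e : _))
    haveI : IsCyclic ((A'.subgroupOf L).map (restrictHom L B hB)) :=
      isCyclic_of_surjective _ ((restrictHom L B hB).subgroupMap_surjective (A'.subgroupOf L))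
    let U' : Sylow 2 (restrictHom L B hB).range :=
      U.mapSurjective (restrictHom L B hB).rangeRestrict_surjective
    refine sylow_not_cyclic httB (by rw [hBcard]; exact ht.add_one) hgt U' ?_
    haveI : IsCyclic ((U : Subgroup L).map (restrictHom L B hB)) := Subgroup.isCyclic_of_le hUimg
    have hU' : ((U' : Subgroup (restrictHom L B hB).range)).map (restrictHom L B hB).range.subtype
        = (U : Subgroup L).map (restrictHom L B hB) := by
      rw [Sylow.coe_mapSurjective, Subgroup.map_map]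
      rfl
    exact isCyclic_of_injective (G' := ((U : Subgroup L).map (restrictHom L B hB)))
      (((MulEquiv.subgroupCongr hU').toMonoidHom).comp
        ((U' : Subgroup (restrictHom L B hB).range).equivMapOfInjective _
          (Subgroup.subtype_injective _)).toMonoidHom)
      ((MulEquiv.subgroupCongr hU').injective.comp (MulEquiv.injective _))
  cases nonempty_fintype Ω
  by_contra hne
  push Not at hne
  have h3 : ({x, a, b} : Set Ω) ⊆ B := by
    rintro y (rfl | rfl | rfl)
    · exact hx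
    · exact haB
    · exact hbB
  have := Set.ncard_le_ncard h3
  rw [Set.ncard_insert_of_notMem (by simp [hne.1, hne.2]), Set.ncard_pair hab.symm,
    ← Nat.card_coe_set_eq B] at this
  omega

/-- The derived group of a point stabiliser is transitive on the remaining points. -/
theorem Hyp.stabDer_moves (hh : Hyp G Ω) {a b c : Ω} (hab : b ≠ a) (hc : c ≠ a) :
    ∃ f ∈ stabDer (G := G) a, f • b = c := by
  set H := stabilizer G a ⊓ stabilizer G b
  set D := stabDer (G := G) a
  obtain ⟨m, hm, hmb⟩ := hh.tt.move_ne hab hc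
  haveI : IsCyclic D := hh.stabDer_cyclic a
  have hDsol : Group.IsSolvable D := Group.isSolvable_of_comm fun x y => IsCyclic.commGroup.mul_comm x y
  have hHN : H ≤ normalizer (D : Set G) := by
    intro k hk
    rw [Subgroup.mem_normalizer_iff]
    refine fun f => ⟨stabDer_conj a hk.1, fun hf => ?_⟩
    have := stabDer_conj a (inv_mem hk.1) hf
    rwa [show k⁻¹ * (k * f * k⁻¹) * k⁻¹⁻¹ = f by group] at this
  have hco : (Nat.card D).Coprime (Nat.card H) := by
    refine Nat.coprime_of_dvd fun q hq hqD hqH => ?_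
    haveI := Fact.mk hq
    obtain ⟨k, hk⟩ := exists_prime_orderOf_dvd_card' q hqH
    have hkD : (k : G) ∈ D := hh.mem_stabDer k.2.1 (by rw [Subgroup.orderOf_coe, hk]; exact hqD)
    have := hh.stabDer_semiregular hab hkD (mem_stabilizer_iff.1 k.2.2)
    rw [← Subgroup.orderOf_coe, this, orderOf_one] at hk
    exact hq.ne_one hk.symm
  obtain ⟨f, hf, hfe⟩ := Cfsg.Agent.Solv.sz_conj_rel D H (H.map (MulAut.conj m).toMonoidHom) hHN
    (by
      rintro _ ⟨k, hk, rfl⟩
      have h1 : m * k * m⁻¹ * k⁻¹ ∈ D :=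
        ⟨⁅(⟨m, hm⟩ : stabilizer G a), ⟨k, hk.1⟩⁆, comm_quot _ _, rfl⟩
      have h2 := Subgroup.mul_mem_sup h1 hk
      rwa [inv_mul_cancel_right] at h2)
    hco (Subgroup.card_map_of_injective (MulEquiv.injective _)) (Or.inl hDsol)
  refine ⟨f, hf, ?_⟩
  have hfix : ∀ k ∈ H, k • (f⁻¹ • c) = f⁻¹ • c := by
    intro k hk
    have h1 : f * k * f⁻¹ ∈ H.map (MulAut.conj m).toMonoidHom := by
      rw [← hfe]
      exact Subgroup.smul_mem_pointwise_smul k (MulAut.conj f) H hk
    obtain ⟨k', hk', e⟩ := h1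
    have e' : m * k' * m⁻¹ = f * k * f⁻¹ := e
    have h2 : (f * k * f⁻¹) • c = c := by
      rw [← e', mul_smul, mul_smul, ← hmb, inv_smul_smul, mem_stabilizer_iff.1 hk'.2]
    rw [mul_smul, mul_smul] at h2
    exact eq_inv_smul_iff.2 h2
  rcases hh.fix_two hab hfix with e | e
  · exfalso
    rw [inv_smul_eq_iff, mem_stabilizer_iff.1 (stabDer_le a hf)] at e
    exact hc e
  · exact (inv_smul_eq_iff.1 e).symm

theorem Hyp.card_stabDer' (hh : Hyp G Ω) {a b : Ω} (hab : b ≠ a) :
    Nat.card (stabDer (G := G) a) = Nat.card Ω - 1 := by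
  have e := card_moves (stabDer (G := G) a) b {c | c ≠ a}
    (fun f hf e => hab (MulAction.injective f (e.trans (mem_stabilizer_iff.1 (stabDer_le a hf)).symm)))
    fun c hc => hh.stabDer_moves hab hc
  have hb : stabDer (G := G) a ⊓ stabilizer G b = ⊥ := (Subgroup.eq_bot_iff_forall _).2 fun x hx =>
    hh.stabDer_semiregular hab hx.1 hx.2
  rwa [hb, Subgroup.card_bot, mul_one, card_ne, eq_comm] at e

end Cfsg.Agent.Perm.CyclicTimesZ
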